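import Groth.Agent.PRed.K542.Versch
import Groth.Agent.Flat2B.SmoothGeom
import Mathlib.FieldTheory.IsAlgClosed.AlgebraicClosure

/-!
# `p`-th powers of linearly independent elements of a geometrically reduced algebra
-/

set_option autoImplicit false

universe u v

open TensorProduct

namespace K542.Filt

variable {k : Type u} [Field k] (p : ℕ) [hp : Fact p.Prime] [CharP k p]

theorem linearIndependent_pow_of_isReduced (K : Type*) [Field K] [IsAlgClosed K] [Algebra k K]
    {A : Type*} [CommRing A] [Algebra k A]
    [IsReduced (K ⊗[k] A)] {ι : Type*} [Fintype ι] (c : ι → A) (hc : LinearIndependent k c) :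
    LinearIndependent k (fun i => c i ^ p) := by
  classical
  have hK : CharP K p := charP_of_injective_algebraMap (algebraMap k K).injective p
  rcases subsingleton_or_nontrivial (K ⊗[k] A) with hs | hnt
  · have hA : Subsingleton A := by
      have h1 : Function.Injective (Algebra.TensorProduct.includeRight : A →ₐ[k] K ⊗[k] A) :=
        Algebra.TensorProduct.includeRight_injective (R := k) (A := K) (B := A) (algebraMap k K).injective
      exact h1.subsingleton
    rw [Fintype.linearIndependent_iff] at hc ⊢
    intro g _ i
    exact absurd (hc (fun _ => 1) (Subsingleton.elim _ _) i) one_ne_zero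
  have hKA : CharP (K ⊗[k] A) p := charP_of_injective_algebraMap (algebraMap K (K ⊗[k] A)).injective p
  rw [Fintype.linearIndependent_iff]
  intro d hd i
  choose e he using fun i => IsAlgClosed.exists_pow_nat_eq (algebraMap k K (d i)) hp.out.pos
  have h1 : (∑ i, e i ⊗ₜ[k] c i) ^ p = 0 := by
    rw [sum_pow_char]
    simp only [Algebra.TensorProduct.tmul_pow, he]
    have : ∀ i, algebraMap k K (d i) ⊗ₜ[k] (c i ^ p) = (1 : K) ⊗ₜ[k] (d i • (c i ^ p)) := by
      intro i
      rw [Algebra.algebraMap_eq_smul_one, TensorProduct.smul_tmul]
    simp only [this]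
    rw [← TensorProduct.tmul_sum, hd, TensorProduct.tmul_zero]
  have h2 : ∑ i, e i ⊗ₜ[k] c i = 0 := pow_eq_zero_iff hp.out.ne_zero |>.1 h1
  have h3 : e i = 0 := by
    have hlin : LinearIndependent K (fun i => (1 : K) ⊗ₜ[k] c i) := by
      exact Module.Flat.linearIndependent_one_tmul hc
    rw [Fintype.linearIndependent_iff] at hlin
    refine hlin e ?_ i
    simpa [TensorProduct.smul_tmul'] using h2
  have h4 := he i
  rw [h3, zero_pow hp.out.ne_zero] at h4
  exact (map_eq_zero_iff (algebraMap k K) (algebraMap k K).injective).1 h4.symm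

end K542.Filt
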