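import Groth.Agent.PRed.K542.PBW2
import Groth.Agent.PRed.K542.GeomRed
import Groth.Agent.Sga7.H740.GaGrp
import Groth.Agent.Books.AffBridge2
import Groth.Prelude.Def_Red2

/-!
# The Hopf algebra of a smooth commutative affine group scheme killed by `p`
-/

set_option autoImplicit false

universe u

open CategoryTheory MonoidalCategory CartesianMonoidalCategory MonObj GrpObj AlgebraicGeometry
open scoped TensorProduct

namespace K542.Filt

open Groth.Agent.Books.AffBridge Groth.Agent.Books.AffBridge2
open WithConv

lemma isIso_left_of_isIso {S : Scheme.{u}} {X Y : Over S} (f : X ⟶ Y) [IsIso f] : IsIso f.left := by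
  have : IsIso ((Over.forget S).map f) := inferInstance
  exact this

variable {k : Type u} [Field k] (p : ℕ) [hp : Fact p.Prime] [CharP k p]

theorem linearIndependent_pow_of_smooth {A : Type u} [CommRing A] [Algebra k A] [Algebra.Smooth k A]
    {J : Type*} [Fintype J] (c : J → A) (hc : LinearIndependent k c) :
    LinearIndependent k (fun i => c i ^ p) := by
  have : IsReduced (AlgebraicClosure k ⊗[k] A) :=
    Groth.Agent.Flat2B.SmoothGeom.isReduced_of_smooth_field (AlgebraicClosure k) (AlgebraicClosure k ⊗[k] A)
  exact linearIndependent_pow_of_isReduced p (AlgebraicClosure k) c hc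

omit hp [CharP k p] in
/-- the identity has order dividing `p` in the convolution monoid, if `p` kills the points -/
theorem conv_id_pow {A : Type u} [CommRing A] [HopfAlgebra k A]
    (h : ∀ (X : Over (Spec (CommRingCat.of k))) (g : X ⟶ SpecOver k A), g ^ p = 1) :
    (toConv (LinearMap.id : A →ₗ[k] A)) ^ p = 1 := by
  have h1 : ∀ (n : ℕ) (f : WithConv (A →ₐ[k] A)), specMap k (f ^ n).ofConv = (specMap k f.ofConv) ^ n := by
    intro n f
    induction n with
    | zero => rw [pow_zero, pow_zero, specMap_one]
    | succ n ih => rw [pow_succ, pow_succ, specMap_mul, ih]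
  have h2 : (toConv (AlgHom.id k A)) ^ p = 1 := by
    apply WithConv.ofConv_injective
    apply specMap_injective k
    rw [h1, h, specMap_one]
  have h3 := AlgHom.toLinearMap_convPow (toConv (AlgHom.id k A)) p
  rw [h2] at h3
  exact h3.symm

/-- **The dictionary.** -/
theorem exists_data (G : Over (Spec (CommRingCat.of k))) [GrpObj G] [IsAffine G.left] [Smooth G.hom]
    (hcomm : ∀ (X : Over (Spec (CommRingCat.of k))) (g h : X ⟶ G), g * h = h * g)
    (htors : ∀ (X : Over (Spec (CommRingCat.of k))) (g : X ⟶ G), g ^ p = 1) :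
    ∃ (A : Type u) (_ : CommRing A) (_ : HopfAlgebra k A) (e : G ≅ SpecOver k A),
      IsMonHom e.hom ∧ Algebra.Smooth k A ∧ Algebra.adjoin k (prim k A : Set A) = ⊤ := by
  obtain ⟨A, _, _, e, he⟩ := exists_hopf k G
  have hsm : Algebra.Smooth k A := by
    rw [← smooth_specOver_iff, ← Over.w e.inv]
    have h1 : IsIso e.inv.left := isIso_left_of_isIso e.inv
    exact smooth_comp e.inv.left G.hom
  have hei : IsMonHom e.inv := inferInstance
  have hcomm' : ∀ (X : Over (Spec (CommRingCat.of k))) (x y : X ⟶ SpecOver k A), x * y = y * x := by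
    intro X x y
    have h1 := hcomm X (x ≫ e.inv) (y ≫ e.inv)
    rw [← MonObj.mul_comp, ← MonObj.mul_comp, cancel_mono] at h1
    exact h1
  have htors' : ∀ (X : Over (Spec (CommRingCat.of k))) (g : X ⟶ SpecOver k A), g ^ p = 1 := by
    intro X x
    have h1 := htors X (x ≫ e.inv)
    rw [← MonObj.pow_comp] at h1
    rw [← cancel_mono e.inv, h1, MonObj.one_comp]
  have hcc : Coalgebra.IsCocomm k A := Groth.Agent.Sga7.H740.GaGrp.isCocomm_of_points hcomm'
  refine ⟨A, _, _, e, he, hsm, ?_⟩
  exact adjoin_prim_eq_top p (conv_id_pow p htors') (fun c hc => linearIndependent_pow_of_smooth p c hc)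

end K542.Filt
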