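import Groth.Agent.PRed.K542.PBW2
import Mathlib.RingTheory.Bialgebra.SymmetricAlgebra
import Mathlib.LinearAlgebra.SymmetricAlgebra.Basis
import Mathlib.Algebra.CharP.Algebra
import Mathlib.Algebra.CharP.Lemmas

/-!
# Vector groups on the Hopf algebra side
-/

set_option autoImplicit false

universe u v w

open scoped TensorProduct

namespace K542.Filt

variable {k : Type u} [Field k] {A : Type v} {B : Type w} [CommRing A] [Bialgebra k A]
  [CommRing B] [Bialgebra k B]

/-- an algebra map which sends a generating set of primitive elements to primitive elements is a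
bialgebra map -/
theorem exists_bialgHom_of_prim (s : Set A) (hs : s ⊆ prim k A) (hgen : Algebra.adjoin k s = ⊤)
    (f : A →ₐ[k] B) (hf : ∀ x ∈ s, f x ∈ prim k B) : ∃ φ : A →ₐc[k] B, (φ : A →ₐ[k] B) = f := by
  refine ⟨BialgHom.ofAlgHom f ?_ ?_, rfl⟩
  · refine AlgHom.ext_of_adjoin_eq_top hgen fun x hx => ?_
    change eps (k := k) (f x) = eps (k := k) x
    rw [eps_prim (hf x hx), eps_prim (hs hx)]
  · refine AlgHom.ext_of_adjoin_eq_top hgen fun x hx => ?_
    change Algebra.TensorProduct.map f f (CoalgebraStruct.comul (R := k) x) =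
      CoalgebraStruct.comul (R := k) (f x)
    rw [mem_prim.1 (hs hx), mem_prim.1 (hf x hx), map_add, Algebra.TensorProduct.map_tmul,
      Algebra.TensorProduct.map_tmul, map_one]

lemma map_mem_prim (f : A →ₐc[k] B) {x : A} (hx : x ∈ prim k A) : f x ∈ prim k B := by
  rw [mem_prim]
  have h := CoalgHomClass.map_comp_comul_apply f x
  rw [mem_prim.1 hx, map_add, TensorProduct.map_tmul, TensorProduct.map_tmul] at h
  have h1 : f 1 = 1 := map_one f
  simp only [LinearMap.coe_coe, h1] at h
  exact h.symm

lemma pow_mem_prim (p : ℕ) [hp : Fact p.Prime] [CharP k p] {x : A} (hx : x ∈ prim k A) :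
    x ^ p ∈ prim k A := by
  have := nontrivial_of_bialgebra k A
  have hA : CharP A p := charP_of_injective_algebraMap (algebraMap k A).injective p
  have hAA : CharP (A ⊗[k] A) p := by
    have : Nontrivial (A ⊗[k] A) := by
      have h1 : Function.Injective (Algebra.TensorProduct.includeLeft : A →ₐ[k] A ⊗[k] A) :=
        Algebra.TensorProduct.includeLeft_injective (R := k) (S := k) (A := A) (B := A)
          (algebraMap k A).injective
      exact h1.nontrivial
    exact charP_of_injective_algebraMap (algebraMap k (A ⊗[k] A)).injective p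
  rw [mem_prim, Bialgebra.comul_pow, mem_prim.1 hx, add_pow_char]
  simp only [Algebra.TensorProduct.tmul_pow, one_pow]

section symm

variable (k) in
/-- the symmetric algebra on `k ^ n` -/
abbrev Sym (n : ℕ) : Type u := SymmetricAlgebra k (Fin n → k)

variable (k) in
/-- the coordinates -/
noncomputable def co (n : ℕ) (i : Fin n) : Sym k n := SymmetricAlgebra.ι k (Fin n → k) (Pi.single i 1)

lemma ι_mem_prim {M : Type u} [AddCommGroup M] [Module k M] (x : M) :
    SymmetricAlgebra.ι k M x ∈ prim k (SymmetricAlgebra k M) := SymmetricAlgebra.comul_ι k M x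

lemma co_mem_prim (n : ℕ) (i : Fin n) : co k n i ∈ prim k (Sym k n) := ι_mem_prim _

lemma adjoin_range_ι (M : Type u) [AddCommGroup M] [Module k M] :
    Algebra.adjoin k (Set.range (SymmetricAlgebra.ι k M)) = ⊤ := by
  rw [eq_top_iff]
  intro x _
  induction x using SymmetricAlgebra.induction with
  | algebraMap r => exact Subalgebra.algebraMap_mem _ _
  | ι x => exact Algebra.subset_adjoin (Set.mem_range_self x)
  | mul x y hx hy => exact mul_mem (hx trivial) (hy trivial)
  | add x y hx hy => exact add_mem (hx trivial) (hy trivial)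

lemma ι_eq_sum (n : ℕ) (x : Fin n → k) :
    SymmetricAlgebra.ι k (Fin n → k) x = ∑ i, x i • co k n i := by
  have h : x = ∑ i, x i • (Pi.single i (1 : k) : Fin n → k) := by
    ext j
    simp [Finset.sum_apply, Pi.single_apply]
  conv_lhs => rw [h]
  rw [map_sum]
  exact Finset.sum_congr rfl fun i _ => map_smul _ _ _

lemma adjoin_range_co (n : ℕ) : Algebra.adjoin k (Set.range (co k n)) = ⊤ := by
  rw [eq_top_iff, ← adjoin_range_ι, Algebra.adjoin_le_iff]
  rintro _ ⟨x, rfl⟩
  rw [ι_eq_sum]
  exact sum_mem fun i _ => Subalgebra.smul_mem _ (Algebra.subset_adjoin (Set.mem_range_self i)) _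

lemma adjoin_prim_symm (n : ℕ) : Algebra.adjoin k (prim k (Sym k n) : Set (Sym k n)) = ⊤ := by
  rw [eq_top_iff, ← adjoin_range_co]
  refine Algebra.adjoin_mono ?_
  rintro _ ⟨i, rfl⟩
  exact co_mem_prim n i

/-- the algebra map given by the images of the coordinates -/
lemma exists_algHom_symm {R : Type*} [CommRing R] [Algebra k R] (n : ℕ) (x : Fin n → R) :
    ∃ f : Sym k n →ₐ[k] R, ∀ i, f (co k n i) = x i := by
  refine ⟨SymmetricAlgebra.lift (Fintype.linearCombination k x), fun i => ?_⟩
  rw [co, SymmetricAlgebra.lift_ι_apply, Fintype.linearCombination_apply_single, one_smul]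

lemma algHom_symm_ext {R : Type*} [CommRing R] [Algebra k R] {n : ℕ} {f g : Sym k n →ₐ[k] R}
    (h : ∀ i, f (co k n i) = g (co k n i)) : f = g := by
  refine AlgHom.ext_of_adjoin_eq_top (adjoin_range_co n) ?_
  rintro _ ⟨i, rfl⟩
  exact h i

lemma exists_bialgHom_symm (n : ℕ) (x : Fin n → A) (hx : ∀ i, x i ∈ prim k A) :
    ∃ f : Sym k n →ₐc[k] A, ∀ i, f (co k n i) = x i := by
  obtain ⟨f, hf⟩ := exists_algHom_symm (k := k) n x
  obtain ⟨φ, hφ⟩ := exists_bialgHom_of_prim (Set.range (co k n)) (by
    rintro _ ⟨i, rfl⟩; exact co_mem_prim n i) (adjoin_range_co n) f (by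
    rintro _ ⟨i, rfl⟩; rw [hf]; exact hx i)
  refine ⟨φ, fun i => ?_⟩
  rw [← hf, ← hφ]
  rfl

lemma surjective_of_adjoin {n : ℕ} (f : Sym k n →ₐ[k] A)
    (h : Algebra.adjoin k (Set.range fun i => f (co k n i)) = ⊤) : Function.Surjective f := by
  have h1 : f.range = ⊤ := by
    rw [eq_top_iff, ← h, Algebra.adjoin_le_iff]
    rintro _ ⟨i, rfl⟩
    exact ⟨_, rfl⟩
  exact (AlgHom.range_eq_top f).1 h1

/-- a finitely generated primitively generated algebra is generated by finitely many primitives -/
theorem exists_fin_prim [hft : Algebra.FiniteType k A] (hgen : Algebra.adjoin k (prim k A : Set A) = ⊤) :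
    ∃ (n : ℕ) (x : Fin n → A), (∀ i, x i ∈ prim k A) ∧ Algebra.adjoin k (Set.range x) = ⊤ := by
  classical
  obtain ⟨s, hs⟩ := hft.out
  -- each element of `s` is in the subalgebra generated by a finite set of primitives
  have h1 : ∀ a : A, ∃ t : Finset A, (t : Set A) ⊆ prim k A ∧ a ∈ Algebra.adjoin k (t : Set A) := by
    intro a
    have ha : a ∈ Algebra.adjoin k (prim k A : Set A) := by rw [hgen]; trivial
    induction ha using Algebra.adjoin_induction with
    | mem x hx => exact ⟨{x}, by simpa using hx, Algebra.subset_adjoin (by simp)⟩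
    | algebraMap r => exact ⟨∅, by simp, Subalgebra.algebraMap_mem _ _⟩
    | add x y _ _ hx hy =>
      obtain ⟨t, ht, htx⟩ := hx
      obtain ⟨t', ht', hty⟩ := hy
      refine ⟨t ∪ t', by rw [Finset.coe_union]; exact Set.union_subset ht ht', ?_⟩
      rw [Finset.coe_union]
      exact add_mem (Algebra.adjoin_mono Set.subset_union_left htx)
        (Algebra.adjoin_mono Set.subset_union_right hty)
    | mul x y _ _ hx hy =>
      obtain ⟨t, ht, htx⟩ := hx
      obtain ⟨t', ht', hty⟩ := hy
      refine ⟨t ∪ t', by rw [Finset.coe_union]; exact Set.union_subset ht ht', ?_⟩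
      rw [Finset.coe_union]
      exact mul_mem (Algebra.adjoin_mono Set.subset_union_left htx)
        (Algebra.adjoin_mono Set.subset_union_right hty)
  choose t ht hta using h1
  let T : Finset A := s.biUnion t
  have hT : (T : Set A) ⊆ prim k A := by
    intro x hx
    obtain ⟨a, _, ha⟩ := Finset.mem_biUnion.1 hx
    exact ht a ha
  have hTgen : Algebra.adjoin k (T : Set A) = ⊤ := by
    rw [eq_top_iff, ← hs, Algebra.adjoin_le_iff]
    intro a ha
    refine Algebra.adjoin_mono ?_ (hta a)
    intro x hx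
    exact Finset.mem_biUnion.2 ⟨a, ha, hx⟩
  refine ⟨T.card, fun i => (T.equivFin.symm i : A), fun i => hT (T.equivFin.symm i).2, ?_⟩
  rw [← hTgen]
  congr 1
  ext x
  constructor
  · rintro ⟨i, rfl⟩
    exact (T.equivFin.symm i).2
  · intro hx
    exact ⟨T.equivFin ⟨x, hx⟩, by simp⟩

/-- **Vector group embedding**, Hopf algebra form. -/
theorem exists_surjective_symm [hft : Algebra.FiniteType k A]
    (hgen : Algebra.adjoin k (prim k A : Set A) = ⊤) :
    ∃ (n : ℕ) (f : Sym k n →ₐc[k] A), Function.Surjective f := by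
  obtain ⟨n, x, hx, hgen⟩ := exists_fin_prim hgen
  obtain ⟨f, hf⟩ := exists_bialgHom_symm n x hx
  refine ⟨n, f, surjective_of_adjoin (f : Sym k n →ₐ[k] A) ?_⟩
  have : (fun i => (f : Sym k n →ₐ[k] A) (co k n i)) = x := funext hf
  rw [this, hgen]

end symm

end K542.Filt
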