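import Groth.Agent.Books.DualAct

/-!
# The coradical filtration of a cocommutative bialgebra and its primitive elements

For a commutative and cocommutative bialgebra `A` over a field, the dual algebra acts on `A` by
`D φ = (id ⊗ φ) ∘ Δ`.  We study the filtration `N n` of the elements killed by any `n` functionals in
the augmentation ideal `φ 1 = 0`:

* `N 1 = k · 1`, `N 2 = k · 1 + prim`;
* multiplication by a primitive element maps `N n` into `N (n + 1)`;
* Leibniz rule for the `D φ` modulo lower terms.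
-/

set_option autoImplicit false

universe u v

open TensorProduct HopfRep WithConv Groth.Agent.Books.DualAct

namespace K542.Filt

variable {k : Type u} {A : Type v} [Field k] [CommRing A] [Bialgebra k A]

/-- the action of the dual on the regular comodule -/
noncomputable abbrev D (φ : A →ₗ[k] k) : A →ₗ[k] A := dact A φ

variable (k A) in
/-- the primitive elements -/
def prim : Submodule k A where
  carrier := {a | CoalgebraStruct.comul (R := k) a = a ⊗ₜ[k] (1 : A) + (1 : A) ⊗ₜ[k] a}
  add_mem' := by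
    intro a b ha hb
    simp only [Set.mem_ofPred_eq] at ha hb ⊢
    rw [map_add, ha, hb, TensorProduct.add_tmul, TensorProduct.tmul_add]
    abel
  zero_mem' := by simp
  smul_mem' := by
    intro c a ha
    simp only [Set.mem_ofPred_eq] at ha ⊢
    rw [map_smul, ha, smul_add, TensorProduct.smul_tmul', TensorProduct.tmul_smul]

lemma mem_prim {a : A} : a ∈ prim k A ↔
    CoalgebraStruct.comul (R := k) a = a ⊗ₜ[k] (1 : A) + (1 : A) ⊗ₜ[k] a := Iff.rfl

lemma D_apply (φ : A →ₗ[k] k) (a : A) :
    D φ a = slice k A A φ (CoalgebraStruct.comul (R := k) a) := rfl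

lemma D_add (φ ψ : A →ₗ[k] k) (a : A) : D (φ + ψ) a = D φ a + D ψ a := by
  rw [D_apply, slice_add]; rfl

lemma D_smul (c : k) (φ : A →ₗ[k] k) (a : A) : D (c • φ) a = c • D φ a := by
  rw [D_apply, slice_smul]; rfl

lemma D_sub (φ ψ : A →ₗ[k] k) (a : A) : D (φ - ψ) a = D φ a - D ψ a := by
  have h : D (φ - ψ + ψ) a = D (φ - ψ) a + D ψ a := D_add _ _ _
  rw [sub_add_cancel] at h
  rw [h, add_sub_cancel_right]

/-- the counit as a linear form -/
noncomputable abbrev eps : A →ₗ[k] k := CoalgebraStruct.counit (R := k) (A := A)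

lemma eps_one : eps (k := k) (1 : A) = 1 := Bialgebra.counit_one

lemma D_eps (a : A) : D (eps : A →ₗ[k] k) a = a := by
  have := congr($(dact_counit (k := k) (A := A) (V := A)) a)
  exact this

lemma eps_D (φ : A →ₗ[k] k) (a : A) : eps (k := k) (D φ a) = φ a := by
  have key : ∀ x : A ⊗[k] A, eps (k := k) (slice k A A φ x) =
      φ ((TensorProduct.lid k A) (LinearMap.rTensor A (eps (k := k)) x)) := by
    intro x
    induction x with
    | zero => simp
    | tmul v a => simp [mul_comm]
    | add x y hx hy => simp only [map_add, hx, hy]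
  rw [D_apply, key]
  have h := Coalgebra.rTensor_counit_comul (R := k) a
  change LinearMap.rTensor A eps (CoalgebraStruct.comul (R := k) a) = _ at h
  rw [h]
  simp

lemma D_one (φ : A →ₗ[k] k) : D φ (1 : A) = φ 1 • (1 : A) := by
  rw [D_apply]
  have : CoalgebraStruct.comul (R := k) (1 : A) = (1 : A) ⊗ₜ[k] (1 : A) := Bialgebra.comul_one
  rw [this, slice_tmul]

lemma D_prim (φ : A →ₗ[k] k) {a : A} (ha : a ∈ prim k A) : D φ a = φ 1 • a + φ a • (1 : A) := by
  rw [D_apply, mem_prim.1 ha, map_add, slice_tmul, slice_tmul]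

lemma eps_prim {a : A} (ha : a ∈ prim k A) : eps (k := k) a = 0 := by
  have h := D_prim (eps : A →ₗ[k] k) ha
  rw [D_eps, eps_one, one_smul] at h
  have h1 := congr(eps (k := k) $h)
  rw [map_add, map_smul, eps_one, smul_eq_mul, mul_one] at h1
  simpa using h1

lemma D_D (φ ψ : A →ₗ[k] k) (a : A) :
    D φ (D ψ a) = D (toConv φ * toConv ψ).ofConv a := dact_dact φ ψ a

lemma D_comm [Coalgebra.IsCocomm k A] (φ ψ : A →ₗ[k] k) (a : A) : D φ (D ψ a) = D ψ (D φ a) := by
  rw [D_D, D_D, mul_comm]

/-- the functional `x ↦ φ (p x) - φ p * ε x` -/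
noncomputable def twist (φ : A →ₗ[k] k) (p : A) : A →ₗ[k] k :=
  φ ∘ₗ LinearMap.mulLeft k p - φ p • eps

lemma twist_one (φ : A →ₗ[k] k) (p : A) : twist φ p 1 = 0 := by
  simp [twist]

lemma D_mul_prim (φ : A →ₗ[k] k) {p : A} (hp : p ∈ prim k A) (c : A) :
    D φ (p * c) = p * D φ c + φ p • c + D (twist φ p) c := by
  have h1 : ∀ x : A ⊗[k] A, slice k A A φ ((p ⊗ₜ[k] (1 : A) + (1 : A) ⊗ₜ[k] p) * x) =
      p * slice k A A φ x + slice k A A (φ ∘ₗ LinearMap.mulLeft k p) x := by
    intro x
    induction x with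
    | zero => simp
    | tmul v a => simp [add_mul]
    | add x y hx hy =>
      rw [mul_add, map_add, hx, hy, map_add, map_add, mul_add]
      abel
  have h2 : CoalgebraStruct.comul (R := k) (p * c) =
      (p ⊗ₜ[k] (1 : A) + (1 : A) ⊗ₜ[k] p) * CoalgebraStruct.comul (R := k) c := by
    rw [Bialgebra.comul_mul, mem_prim.1 hp]
  rw [D_apply, h2, h1, twist, D_sub, D_smul, D_eps]
  change p * D φ c + D (φ ∘ₗ LinearMap.mulLeft k p) c = _
  abel

variable (k A) in
/-- the coradical filtration, indexed so that `N 0 = 0` and `N 1 = k` -/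
def N : ℕ → Submodule k A
  | 0 => ⊥
  | n + 1 => { carrier := {a | ∀ φ : A →ₗ[k] k, φ 1 = 0 → D φ a ∈ N n}
               add_mem' := by
                 intro a b ha hb φ hφ
                 rw [map_add]
                 exact add_mem (ha φ hφ) (hb φ hφ)
               zero_mem' := by
                 intro φ _
                 rw [map_zero]
                 exact zero_mem _
               smul_mem' := by
                 intro c a ha φ hφ
                 rw [map_smul]
                 exact Submodule.smul_mem _ _ (ha φ hφ) }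

lemma mem_N_zero {a : A} : a ∈ N k A 0 ↔ a = 0 := Submodule.mem_bot k

lemma mem_N_succ {n : ℕ} {a : A} : a ∈ N k A (n + 1) ↔ ∀ φ : A →ₗ[k] k, φ 1 = 0 → D φ a ∈ N k A n :=
  Iff.rfl

lemma N_le_succ (n : ℕ) : N k A n ≤ N k A (n + 1) := by
  induction n with
  | zero => exact bot_le
  | succ n ih =>
    intro a ha
    rw [mem_N_succ] at ha ⊢
    exact fun φ hφ => ih (ha φ hφ)

lemma N_mono {m n : ℕ} (h : m ≤ n) : N k A m ≤ N k A n := monotone_nat_of_le_succ N_le_succ h

lemma D_mem_pred {n : ℕ} {a : A} (ha : a ∈ N k A n) {φ : A →ₗ[k] k} (hφ : φ 1 = 0) :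
    D φ a ∈ N k A (n - 1) := by
  cases n with
  | zero => rw [mem_N_zero] at ha; rw [ha, map_zero]; exact zero_mem _
  | succ n => exact ha φ hφ

lemma D_mem {n : ℕ} {a : A} (ha : a ∈ N k A n) (φ : A →ₗ[k] k) : D φ a ∈ N k A n := by
  have h : φ = (φ - φ 1 • eps) + φ 1 • eps := by abel
  rw [h, D_add, D_smul, D_eps]
  refine add_mem (N_mono (Nat.sub_le n 1) (D_mem_pred ha ?_)) (Submodule.smul_mem _ _ ha)
  simp

lemma one_mem_N : (1 : A) ∈ N k A 1 := by
  intro φ hφ
  rw [D_one, hφ, zero_smul]
  exact zero_mem _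

/-- a linear form is determined by its restriction to the augmentation ideal of the dual -/
lemma ext_aug {x y : A ⊗[k] A} (h : ∀ φ : A →ₗ[k] k, φ 1 = 0 → slice k A A φ x = slice k A A φ y)
    (h' : slice k A A (eps : A →ₗ[k] k) x = slice k A A (eps : A →ₗ[k] k) y) : x = y := by
  apply ext_slice
  intro φ
  have hφ : φ = (φ - φ 1 • eps) + φ 1 • eps := by abel
  rw [hφ, slice_add, slice_smul, LinearMap.add_apply, LinearMap.add_apply, LinearMap.smul_apply,
    LinearMap.smul_apply, h', h _ (by simp)]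

lemma mem_N_one {a : A} (ha : a ∈ N k A 1) : a = eps (k := k) a • (1 : A) := by
  have h1 : CoalgebraStruct.comul (R := k) a = a ⊗ₜ[k] (1 : A) := by
    apply ext_aug
    · intro φ hφ
      have := ha φ hφ
      rw [mem_N_zero] at this
      rw [slice_tmul, hφ, zero_smul]
      exact this
    · rw [slice_tmul, eps_one, one_smul]
      exact D_eps a
  have h := Coalgebra.rTensor_counit_comul (R := k) a
  change LinearMap.rTensor A eps (CoalgebraStruct.comul (R := k) a) = _ at h
  rw [h1, LinearMap.rTensor_tmul] at h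
  have := congr(TensorProduct.lid k A $h)
  simpa using this.symm

lemma mem_N_two {a : A} (ha : a ∈ N k A 2) : a - eps (k := k) a • (1 : A) ∈ prim k A := by
  set b := a - eps (k := k) a • (1 : A) with hb
  have hbN : b ∈ N k A 2 := sub_mem ha (Submodule.smul_mem _ _ (N_le_succ 1 one_mem_N))
  have hb0 : eps (k := k) b = 0 := by
    rw [hb, map_sub, map_smul, eps_one]
    simp
  rw [mem_prim]
  apply ext_aug
  · intro φ hφ
    have h1 := mem_N_one (hbN φ hφ)
    rw [eps_D] at h1
    rw [map_add, slice_tmul, slice_tmul, hφ, zero_smul, zero_add]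
    exact h1
  · rw [map_add, slice_tmul, slice_tmul, eps_one, one_smul, hb0, zero_smul, add_zero]
    exact D_eps b

lemma prim_le_N_two : prim k A ≤ N k A 2 := by
  intro a ha φ hφ
  rw [D_prim φ ha, hφ, zero_smul, zero_add]
  exact Submodule.smul_mem _ _ one_mem_N

/-- multiplication by a primitive element raises the filtration by one -/
lemma mul_mem_N {p : A} (hp : p ∈ prim k A) {n : ℕ} {c : A} (hc : c ∈ N k A n) :
    p * c ∈ N k A (n + 1) := by
  induction n generalizing c with
  | zero => rw [mem_N_zero] at hc; rw [hc, mul_zero]; exact zero_mem _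
  | succ n ih =>
    intro φ hφ
    rw [D_mul_prim φ hp]
    refine add_mem (add_mem (ih (hc φ hφ)) (Submodule.smul_mem _ _ hc)) ?_
    exact N_le_succ n (hc _ (twist_one φ p))

lemma pow_mul_mem_N {p : A} (hp : p ∈ prim k A) {n : ℕ} {c : A} (hc : c ∈ N k A n) (m : ℕ) :
    p ^ m * c ∈ N k A (n + m) := by
  induction m with
  | zero => simpa using hc
  | succ m ih =>
    rw [pow_succ', mul_assoc]
    exact mul_mem_N hp ih

/-- Leibniz rule modulo lower terms, one factor -/
lemma D_mul_prim_sub_mem (φ : A →ₗ[k] k) {p : A} (hp : p ∈ prim k A) {l : ℕ} {c : A}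
    (hc : c ∈ N k A (l + 1)) : D φ (p * c) - p * D φ c - φ p • c ∈ N k A l := by
  rw [D_mul_prim φ hp]
  have : p * D φ c + φ p • c + D (twist φ p) c - p * D φ c - φ p • c = D (twist φ p) c := by abel
  rw [this]
  exact hc _ (twist_one φ p)

/-- Leibniz rule modulo lower terms for powers -/
lemma D_pow_mul_sub_mem (φ : A →ₗ[k] k) {p : A} (hp : p ∈ prim k A) {l : ℕ} {c : A}
    (hc : c ∈ N k A (l + 1)) (m : ℕ) :
    D φ (p ^ (m + 1) * c) - p ^ (m + 1) * D φ c - ((m + 1 : ℕ) : k) • φ p • (p ^ m * c) ∈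
      N k A (l + m) := by
  induction m with
  | zero =>
    have := D_mul_prim_sub_mem φ hp hc
    simpa using this
  | succ m ih =>
    have h1 := D_mul_prim_sub_mem φ hp (l := l + m + 1) (c := p ^ (m + 1) * c) (by
      have := pow_mul_mem_N hp hc (m + 1)
      have e : l + m + 1 + 1 = l + 1 + (m + 1) := by ring
      rw [e]; exact this)
    have h2 := mul_mem_N hp ih
    have h3 := add_mem h1 h2
    have e1 : p ^ (m + 1 + 1) = p * p ^ (m + 1) := pow_succ' p (m + 1)
    have e2 : p ^ (m + 1) = p * p ^ m := pow_succ' p m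
    have e3 : D φ (p ^ (m + 1 + 1) * c) - p ^ (m + 1 + 1) * D φ c -
        ((m + 1 + 1 : ℕ) : k) • φ p • (p ^ (m + 1) * c) =
        (D φ) (p * (p ^ (m + 1) * c)) - p * (D φ) (p ^ (m + 1) * c) - φ p • (p ^ (m + 1) * c) +
        p * ((D φ) (p ^ (m + 1) * c) - p ^ (m + 1) * (D φ) c - ((m + 1 : ℕ) : k) • φ p • (p ^ m * c)) := by
      rw [e1, mul_assoc, mul_assoc]
      generalize D φ (p * (p ^ (m + 1) * c)) = x
      generalize D φ (p ^ (m + 1) * c) = y
      rw [mul_sub, mul_sub, mul_smul_comm, mul_smul_comm, ← mul_assoc p (p ^ m) c, ← e2]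
      push_cast
      rw [add_smul ((m : k) + 1) 1, one_smul]
      abel
    rw [e3]
    exact h3

end K542.Filt
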