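import Groth.Agent.PRed.K542.Filt
import Mathlib.Algebra.CharP.Lemmas
import Mathlib.LinearAlgebra.Dual.Lemmas
import Mathlib.RingTheory.Nilpotent.Lemmas
import Mathlib.RingTheory.Finiteness.Nilpotent

/-!
# Generation by primitive elements

Let `A` be a commutative and cocommutative bialgebra over a field of characteristic `p` whose
augmentation ideal in the dual algebra satisfies `φ ^ p = 0`.  Then `A` is generated by its primitive
elements.
-/

set_option autoImplicit false

universe u v

open TensorProduct HopfRep WithConv Groth.Agent.Books.DualAct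

namespace K542.Filt

variable {k : Type u} {A : Type v} [Field k] [CommRing A] [Bialgebra k A]

lemma D_pow_mem {x : A →ₗ[k] k} (hx : x 1 = 0) {n : ℕ} {a : A} (ha : a ∈ N k A n) (m : ℕ) :
    ((D x) ^ m : Module.End k A) a ∈ N k A (n - m) := by
  induction m with
  | zero => simpa using ha
  | succ m ih =>
    rw [pow_succ']
    have := D_mem_pred ih hx
    rwa [Nat.sub_sub] at this

/-- the homotopy operator `∑_{m < p} (-1) ^ m / m! q ^ m (D x) ^ m` -/
noncomputable def E (p : ℕ) (q : A) (x : A →ₗ[k] k) : A →ₗ[k] A :=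
  ∑ m ∈ Finset.range p, ((-1) ^ m * ((m.factorial : ℕ) : k)⁻¹) •
    (LinearMap.mulLeft k (q ^ m) ∘ₗ ((D x) ^ m : Module.End k A))

lemma E_apply (p : ℕ) (q : A) (x : A →ₗ[k] k) (a : A) :
    E p q x a = ∑ m ∈ Finset.range p, ((-1) ^ m * ((m.factorial : ℕ) : k)⁻¹) •
      (q ^ m * ((D x) ^ m : Module.End k A) a) := by
  simp [E, LinearMap.sum_apply]

lemma pow_mul_D_pow_mem {q : A} (hq : q ∈ prim k A) {x : A →ₗ[k] k} (hx : x 1 = 0) {n : ℕ} {a : A}
    (ha : a ∈ N k A n) (m : ℕ) : q ^ m * ((D x) ^ m : Module.End k A) a ∈ N k A n := by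
  by_cases hm : m ≤ n
  · have := pow_mul_mem_N hq (D_pow_mem hx ha m) m
    rwa [Nat.sub_add_cancel hm] at this
  · have := D_pow_mem hx ha m
    rw [show n - m = 0 by omega, mem_N_zero] at this
    rw [this, mul_zero]
    exact zero_mem _

lemma E_mem {q : A} (hq : q ∈ prim k A) {x : A →ₗ[k] k} (hx : x 1 = 0) (p : ℕ) {n : ℕ} {a : A}
    (ha : a ∈ N k A n) : E p q x a ∈ N k A n := by
  rw [E_apply]
  exact sum_mem fun m _ => Submodule.smul_mem _ _ (pow_mul_D_pow_mem hq hx ha m)

lemma err_mem {q : A} (hq : q ∈ prim k A) {x : A →ₗ[k] k} (hx : x 1 = 0) (φ : A →ₗ[k] k) {n : ℕ}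
    {a : A} (ha : a ∈ N k A (n + 1)) (m : ℕ) :
    D φ (q ^ (m + 1) * ((D x) ^ (m + 1) : Module.End k A) a) -
      q ^ (m + 1) * D φ (((D x) ^ (m + 1) : Module.End k A) a) -
      ((m + 1 : ℕ) : k) • φ q • (q ^ m * ((D x) ^ (m + 1) : Module.End k A) a) ∈ N k A (n - 1) := by
  have hc := D_pow_mem hx ha (m + 1)
  by_cases hm : m < n
  · obtain ⟨l, hl⟩ : ∃ l, n = l + m + 1 := ⟨n - m - 1, by omega⟩
    have e : n + 1 - (m + 1) = l + 1 := by omega
    rw [e] at hc
    have := D_pow_mul_sub_mem φ hq hc m
    rwa [show n - 1 = l + m by omega]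
  · rw [show n + 1 - (m + 1) = 0 by omega, mem_N_zero] at hc
    rw [hc]
    simp

section Char

variable [Coalgebra.IsCocomm k A] (p : ℕ) [hp : Fact p.Prime] [CharP k p]

omit [Fact p.Prime] [CharP k p] in
lemma D_pow_comm (φ x : A →ₗ[k] k) (a : A) (m : ℕ) :
    D φ (((D x) ^ m : Module.End k A) a) = ((D x) ^ m : Module.End k A) (D φ a) := by
  induction m with
  | zero => rfl
  | succ m ih =>
    rw [pow_succ']
    change D φ (D x (((D x) ^ m : Module.End k A) a)) = D x (((D x) ^ m : Module.End k A) (D φ a))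
    rw [D_comm, ih]

/-- the key property of the homotopy operator -/
lemma D_E_mem {q : A} (hq : q ∈ prim k A) {x : A →ₗ[k] k} (hx : x 1 = 0)
    (hxp : ((D x) ^ p : Module.End k A) = 0) (φ : A →ₗ[k] k) {n : ℕ} {a : A}
    (ha : a ∈ N k A (n + 1)) :
    D φ (E p q x a) - E p q x (D φ a) + φ q • E p q x (D x a) ∈ N k A (n - 1) := by
  obtain ⟨r, rfl⟩ : ∃ r, p = r + 1 := ⟨p - 1, (Nat.sub_add_cancel hp.out.one_le).symm⟩
  -- the coefficients
  set α : ℕ → k := fun m => (-1) ^ m * ((m.factorial : ℕ) : k)⁻¹ with hα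
  have hα' : ∀ m, m < r → α (m + 1) * ((m + 1 : ℕ) : k) = - α m := by
    intro m hm
    have hne : ((m + 1 : ℕ) : k) ≠ 0 := by
      rw [Ne, CharP.cast_eq_zero_iff k (r + 1)]
      exact Nat.not_dvd_of_pos_of_lt (by omega) (by omega)
    simp only [hα]
    rw [Nat.factorial_succ, Nat.cast_mul, mul_inv, pow_succ]
    field_simp
  have h1 : D φ (E (r + 1) q x a) = D φ a + ∑ m ∈ Finset.range r, α (m + 1) •
      D φ (q ^ (m + 1) * ((D x) ^ (m + 1) : Module.End k A) a) := by
    rw [E_apply, map_sum, Finset.sum_range_succ']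
    simp only [map_smul]
    rw [add_comm]
    congr 1
    simp
  have h2 : E (r + 1) q x (D φ a) = D φ a + ∑ m ∈ Finset.range r, α (m + 1) •
      (q ^ (m + 1) * D φ (((D x) ^ (m + 1) : Module.End k A) a)) := by
    rw [E_apply, Finset.sum_range_succ']
    rw [add_comm]
    congr 1
    · simp
    · exact Finset.sum_congr rfl fun m _ => by rw [D_pow_comm]
  have h3 : E (r + 1) q x (D x a) = - ∑ m ∈ Finset.range r, α (m + 1) • ((m + 1 : ℕ) : k) •
      (q ^ m * ((D x) ^ (m + 1) : Module.End k A) a) := by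
    rw [E_apply, Finset.sum_range_succ]
    have h4 : ((D x) ^ r : Module.End k A) (D x a) = 0 := by
      have : ((D x) ^ r : Module.End k A) (D x a) = ((D x) ^ (r + 1) : Module.End k A) a := by
        rw [pow_succ]; rfl
      rw [this, hxp]
      rfl
    rw [h4, mul_zero, smul_zero, add_zero, ← Finset.sum_neg_distrib]
    refine Finset.sum_congr rfl fun m hm => ?_
    rw [Finset.mem_range] at hm
    rw [smul_smul, hα' m hm, neg_smul, neg_neg]
    have : ((D x) ^ m : Module.End k A) (D x a) = ((D x) ^ (m + 1) : Module.End k A) a := by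
      rw [pow_succ]; rfl
    rw [this]
  have h5 : D φ (E (r + 1) q x a) - E (r + 1) q x (D φ a) + φ q • E (r + 1) q x (D x a) =
      ∑ m ∈ Finset.range r, α (m + 1) •
        (D φ (q ^ (m + 1) * ((D x) ^ (m + 1) : Module.End k A) a) -
        q ^ (m + 1) * D φ (((D x) ^ (m + 1) : Module.End k A) a) -
        ((m + 1 : ℕ) : k) • φ q • (q ^ m * ((D x) ^ (m + 1) : Module.End k A) a)) := by
    rw [h1, h2, h3]
    simp only [smul_sub, Finset.sum_sub_distrib, smul_neg, Finset.smul_sum]
    have h6 : ∀ m, φ q • α (m + 1) • ((m + 1 : ℕ) : k) •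
        (q ^ m * ((D x) ^ (m + 1) : Module.End k A) a) = α (m + 1) • ((m + 1 : ℕ) : k) • φ q •
        (q ^ m * ((D x) ^ (m + 1) : Module.End k A) a) := by
      intro m
      rw [smul_comm (φ q), smul_comm (φ q)]
    simp only [h6]
    abel
  rw [h5]
  exact sum_mem fun m _ => Submodule.smul_mem _ _ (err_mem hq hx φ ha m)

/-- the inductive step of the generation theorem -/
lemma mem_of_finset (B : Subalgebra k A) (hB : prim k A ≤ Subalgebra.toSubmodule B)
    (hV : ∀ x : A →ₗ[k] k, x 1 = 0 → ((D x) ^ p : Module.End k A) = 0)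
    (n : ℕ) (hn : N k A n ≤ Subalgebra.toSubmodule B) (s : Finset A) (hs : ∀ q ∈ s, q ∈ prim k A) :
    ∀ a ∈ N k A (n + 1), (∀ ψ : A →ₗ[k] k, ψ 1 = 0 → (∀ q ∈ s, ψ q = 0) → D ψ a ∈ N k A (n - 1)) →
      a ∈ B := by
  classical
  induction s using Finset.induction_on with
  | empty =>
    intro a ha hψ
    cases n with
    | zero =>
      rw [mem_N_one ha]
      exact B.smul_mem B.one_mem _
    | succ n =>
      apply hn
      intro ψ hψ1
      exact hψ ψ hψ1 (by simp)
  | insert q s hqs ih =>
    intro a ha hψ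
    have hq : q ∈ prim k A := hs q (Finset.mem_insert_self _ _)
    have hs' : ∀ q ∈ s, q ∈ prim k A := fun q hq => hs q (Finset.mem_insert_of_mem hq)
    by_cases hspan : q ∈ Submodule.span k (s : Set A)
    · refine ih hs' a ha fun ψ hψ1 hψs => hψ ψ hψ1 ?_
      intro q' hq'
      rw [Finset.mem_insert] at hq'
      rcases hq' with rfl | hq'
      · have : Submodule.span k (s : Set A) ≤ LinearMap.ker ψ := by
          rw [Submodule.span_le]
          exact fun y hy => hψs y hy
        exact this hspan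
      · exact hψs q' hq'
    · -- choose a functional
      have hnot : q ∉ Submodule.span k (insert 1 (s : Set A)) := by
        rw [Submodule.mem_span_insert]
        rintro ⟨c, z, hz, h⟩
        have hzp : z ∈ prim k A := (Submodule.span_le.2 (fun y hy => hs' y hy) :
          Submodule.span k (s : Set A) ≤ prim k A) hz
        have h1 := congr(eps (k := k) $h)
        rw [eps_prim hq, map_add, eps_prim hzp, map_smul, eps_one, smul_eq_mul, mul_one,
          add_zero] at h1
        rw [← h1, zero_smul, zero_add] at h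
        exact hspan (h ▸ hz)
      obtain ⟨f, hfq, hf⟩ := Submodule.exists_dual_map_eq_bot_of_notMem hnot inferInstance
      have hf0 : ∀ y ∈ insert 1 (s : Set A), f y = 0 := by
        intro y hy
        have : f y ∈ Submodule.map f (Submodule.span k (insert 1 (s : Set A))) :=
          Submodule.mem_map_of_mem (Submodule.subset_span hy)
        rwa [hf, Submodule.mem_bot] at this
      let x : A →ₗ[k] k := (f q)⁻¹ • f
      have hx1 : x 1 = 0 := by simp [x, hf0 1 (Set.mem_insert _ _)]
      have hxq : x q = 1 := by simp [x, hfq]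
      have hxs : ∀ y ∈ s, x y = 0 := by
        intro y hy
        simp [x, hf0 y (Set.mem_insert_of_mem _ hy)]
      set a' := E p q x a with ha'
      have ha'N : a' ∈ N k A (n + 1) := E_mem hq hx1 p ha
      have hsub : a - a' ∈ B := by
        obtain ⟨r, rfl⟩ : ∃ r, p = r + 1 := ⟨p - 1, (Nat.sub_add_cancel hp.out.one_le).symm⟩
        rw [ha', E_apply, Finset.sum_range_succ']
        simp only [pow_zero, Nat.factorial_zero, Nat.cast_one, inv_one, mul_one, one_smul, one_mul]
        have e : a - (∑ m ∈ Finset.range r, ((-1) ^ (m + 1) * (((m + 1).factorial : ℕ) : k)⁻¹) •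
            (q ^ (m + 1) * ((D x) ^ (m + 1) : Module.End k A) a) + (1 : Module.End k A) a) =
            - ∑ m ∈ Finset.range r, ((-1) ^ (m + 1) * (((m + 1).factorial : ℕ) : k)⁻¹) •
            (q ^ (m + 1) * ((D x) ^ (m + 1) : Module.End k A) a) := by
          rw [Module.End.one_apply]; abel
        rw [e]
        refine neg_mem (sum_mem fun m _ => B.smul_mem (B.mul_mem (B.pow_mem (hB hq) _) ?_) _)
        apply hn
        refine N_mono ?_ (D_pow_mem hx1 ha (m + 1))
        omega
      have hmain : ∀ ψ : A →ₗ[k] k, ψ 1 = 0 → (∀ q ∈ s, ψ q = 0) → D ψ a' ∈ N k A (n - 1) := by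
        intro ψ hψ1 hψs
        let ψ' := ψ - ψ q • x
        have hψ'1 : ψ' 1 = 0 := by simp [ψ', hψ1, hx1]
        have hψ's : ∀ q' ∈ insert q s, ψ' q' = 0 := by
          intro q' hq'
          rw [Finset.mem_insert] at hq'
          rcases hq' with rfl | hq'
          · simp [ψ', hxq]
          · simp [ψ', hψs q' hq', hxs q' hq']
        have h1 : D ψ' a' ∈ N k A (n - 1) := by
          have h2 := D_E_mem p hq hx1 (hV x hx1) ψ' ha
          rw [hψ's q (Finset.mem_insert_self _ _), zero_smul, add_zero] at h2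
          have h3 := E_mem hq hx1 p (hψ ψ' hψ'1 hψ's)
          have := add_mem h2 h3
          rwa [sub_add_cancel] at this
        have h4 : D x a' ∈ N k A (n - 1) := by
          have h2 := D_E_mem p hq hx1 (hV x hx1) x ha
          rwa [hxq, one_smul, sub_add_cancel] at h2
        have h5 : ψ = ψ' + ψ q • x := by simp [ψ']
        rw [h5, D_add, D_smul]
        exact add_mem h1 (Submodule.smul_mem _ _ h4)
      have := B.add_mem hsub (ih hs' a' ha'N hmain)
      rwa [sub_add_cancel] at this

omit hp [CharP k p] in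
/-- a finite set of primitive elements controlling the action on a finite-dimensional subcomodule -/
lemma exists_finset (a : A) : ∃ s : Finset A, (∀ q ∈ s, q ∈ prim k A) ∧
    ∀ m, a ∈ N k A (m + 2) → ∀ ψ : A →ₗ[k] k, ψ 1 = 0 → (∀ q ∈ s, ψ q = 0) → D ψ a ∈ N k A m := by
  classical
  obtain ⟨C, haC, hCfin, hC⟩ := exists_finite_subcomod (k := k) (A := A) a
  rw [isSubcomod_iff] at hC
  let g : A →ₗ[k] A := LinearMap.id - (LinearMap.toSpanSingleton k A 1) ∘ₗ eps
  have hg : ∀ c, g c = c - eps (k := k) c • (1 : A) := by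
    intro c
    simp [g]
  let W : Submodule k A := Submodule.map g (C ⊓ N k A 2)
  have hW : W ≤ prim k A := by
    rintro _ ⟨c, hc, rfl⟩
    rw [hg]
    exact mem_N_two hc.2
  have hWfg : W.FG := by
    have : Module.Finite k (C ⊓ N k A 2 : Submodule k A) :=
      Submodule.finiteDimensional_of_le inf_le_left
    exact Submodule.FG.map g ((Submodule.fg_iff_finiteDimensional _).2 this)
  obtain ⟨s, hs⟩ := hWfg
  refine ⟨s, fun q hq => hW (hs ▸ Submodule.subset_span hq), ?_⟩
  intro m hm ψ hψ1 hψs
  have hψW : ∀ w ∈ W, ψ w = 0 := by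
    intro w hw
    have : W ≤ LinearMap.ker ψ := by
      rw [← hs, Submodule.span_le]
      exact fun y hy => hψs y hy
    exact this hw
  have key : ∀ m, ∀ c ∈ C, c ∈ N k A (m + 2) → D ψ c ∈ N k A m := by
    intro m
    induction m with
    | zero =>
      intro c hc hc2
      have hmem : g c ∈ W := ⟨c, ⟨hc, hc2⟩, rfl⟩
      have hcd : c = g c + eps (k := k) c • (1 : A) := by rw [hg, sub_add_cancel]
      rw [mem_N_zero, hcd, map_add, map_smul, D_one, hψ1, zero_smul, smul_zero, add_zero,
        D_prim ψ (hW hmem), hψ1, zero_smul, hψW _ hmem, zero_smul, add_zero]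
    | succ m ih =>
      intro c hc hc2 φ hφ1
      rw [D_comm]
      exact ih _ (hC φ c hc) (hc2 φ hφ1)
  exact key m a haC hm

/-- **Generation by primitive elements**: if the augmentation ideal of the dual algebra satisfies
`x ^ p = 0` (in terms of its action) then the elements of the coradical filtration lie in the
subalgebra generated by the primitive elements. -/
theorem N_le_adjoin (hV : ∀ x : A →ₗ[k] k, x 1 = 0 → ((D x) ^ p : Module.End k A) = 0) (n : ℕ) :
    N k A n ≤ Subalgebra.toSubmodule (Algebra.adjoin k (prim k A : Set A)) := by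
  induction n with
  | zero => exact bot_le
  | succ n ih =>
    intro a ha
    cases n with
    | zero =>
      rw [mem_N_one ha]
      exact Subalgebra.smul_mem _ (Subalgebra.one_mem _) _
    | succ n =>
      obtain ⟨s, hs, hs'⟩ := exists_finset (k := k) a
      exact mem_of_finset p _ Algebra.subset_adjoin hV (n + 1) ih s hs a ha (hs' n ha)

end Char

end K542.Filt
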