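import Groth.Agent.PRed.K542.Filt
import Mathlib.Algebra.MvPolynomial.PDeriv
import Mathlib.RingTheory.MvPolynomial.Homogeneous
import Mathlib.RingTheory.MvPolynomial.EulerIdentity

/-!
# Restricted Poincaré–Birkhoff–Witt for primitively generated commutative Hopf algebras

Polynomials all of whose exponents are `< p` in linearly independent primitive elements are linearly
independent, compatibly with the coradical filtration.
-/

set_option autoImplicit false

universe u v

open TensorProduct MvPolynomial

namespace K542.Filt

variable {k : Type u} {A : Type v} [Field k] [CommRing A] [Bialgebra k A]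

section
variable {σ : Type*} (b : σ → A) (hb : ∀ i, b i ∈ prim k A)

lemma sub_single_add {s : σ →₀ ℕ} {i : σ} (hi : s i ≠ 0) : s - Finsupp.single i 1 + Finsupp.single i 1 = s := by
  classical
  ext j
  rw [Finsupp.add_apply, Finsupp.tsub_apply, Finsupp.single_apply]
  split_ifs with h
  · subst h; omega
  · omega

include hb in
/-- the basic estimate for monomials -/
lemma monomial_mem (n : ℕ) : ∀ s : σ →₀ ℕ, s.degree = n → aeval b (monomial s (1 : k)) ∈ N k A (n + 1) := by
  induction n with
  | zero =>
    intro s hs
    have : s = 0 := (Finsupp.degree_eq_zero_iff s).1 hs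
    subst this
    have : aeval b (monomial 0 (1 : k)) = (1 : A) := by
      rw [aeval_monomial]; simp
    rw [this]
    exact one_mem_N
  | succ n ih =>
    intro s hs
    have hne : s ≠ 0 := by
      rintro rfl
      simp at hs
    obtain ⟨i, hi⟩ := Finsupp.ne_iff.1 hne
    have h1 : s = (s - Finsupp.single i 1) + Finsupp.single i 1 := (sub_single_add hi).symm
    have h2 : (s - Finsupp.single i 1).degree = n := by
      have := congrArg Finsupp.degree h1
      rw [map_add, Finsupp.degree_single, hs] at this
      omega
    have h3 : aeval b (monomial s (1 : k)) = b i * aeval b (monomial (s - Finsupp.single i 1) (1 : k)) := by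
      conv_lhs => rw [h1, ← mul_one (1 : k), ← monomial_mul, map_mul]
      rw [mul_comm]
      congr 1
      change aeval b (X i) = b i
      exact aeval_X _ _
    rw [h3]
    exact mul_mem_N (hb i) (ih _ h2)

include hb in
lemma aeval_mem {n : ℕ} {f : MvPolynomial σ k} (hf : f.IsHomogeneous n) : aeval b f ∈ N k A (n + 1) := by
  rw [f.as_sum, map_sum]
  refine Submodule.sum_mem _ fun s hs => ?_
  have h1 : monomial s (coeff s f) = (coeff s f) • monomial s (1 : k) := by
    rw [smul_monomial, smul_eq_mul, mul_one]
  rw [h1, map_smul]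
  refine Submodule.smul_mem _ _ (monomial_mem b hb n s ?_)
  by_contra hne
  exact (mem_support_iff.1 hs) (hf.coeff_eq_zero hne)

/-- the derivation `X_j ↦ φ (b_j)` -/
noncomputable def der (φ : A →ₗ[k] k) : Derivation k (MvPolynomial σ k) (MvPolynomial σ k) :=
  mkDerivation k (fun j => C (φ (b j)))

lemma der_X (φ : A →ₗ[k] k) (i : σ) : der b φ (X i) = C (φ (b i)) := mkDerivation_X _ _ _

include hb in
lemma monomial_D_sub_mem {φ : A →ₗ[k] k} (hφ : φ 1 = 0) (n : ℕ) : ∀ s : σ →₀ ℕ, s.degree = n →
    D φ (aeval b (monomial s (1 : k))) - aeval b (der b φ (monomial s (1 : k))) ∈ N k A (n - 1) := by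
  induction n with
  | zero =>
    intro s hs
    have : s = 0 := (Finsupp.degree_eq_zero_iff s).1 hs
    subst this
    have h1 : aeval b (monomial 0 (1 : k)) = (1 : A) := by
      rw [aeval_monomial]; simp
    have h2 : der b φ (monomial 0 (1 : k)) = 0 := (der b φ).map_one_eq_zero
    rw [h1, h2, D_one, hφ, zero_smul, map_zero, sub_zero]
    exact zero_mem _
  | succ n ih =>
    intro s hs
    have hne : s ≠ 0 := by
      rintro rfl
      simp at hs
    obtain ⟨i, hi⟩ := Finsupp.ne_iff.1 hne
    have h1 : s = (s - Finsupp.single i 1) + Finsupp.single i 1 := (sub_single_add hi).symm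
    set t := s - Finsupp.single i 1 with ht
    have h2 : t.degree = n := by
      have := congrArg Finsupp.degree h1
      rw [map_add, Finsupp.degree_single, hs] at this
      omega
    have h3 : (monomial s (1 : k)) = X i * monomial t (1 : k) := by
      conv_lhs => rw [h1, ← mul_one (1 : k), ← monomial_mul]
      rw [mul_comm]
      rfl
    rw [h3, Derivation.leibniz, der_X, map_mul, aeval_X]
    have h4 := D_mul_prim_sub_mem φ (hb i) (monomial_mem b hb n t h2)
    have h5 := mul_mem_N (hb i) (ih t h2)
    have h6 : b i * ((D φ) ((aeval b) ((monomial t) (1 : k))) - (aeval b) ((der b φ) ((monomial t) 1))) ∈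
        N k A (n + 1 - 1) := by
      rw [Nat.add_sub_cancel]
      cases n with
      | zero =>
        have h7 := ih t h2
        rw [mem_N_zero] at h7
        rw [h7, mul_zero]
        exact zero_mem _
      | succ n => exact h5
    have h7 := add_mem (s := N k A (n + 1 - 1)) h4 h6
    convert h7 using 1
    simp only [smul_eq_mul, map_add, map_mul, aeval_X, aeval_C]
    rw [Algebra.smul_def]
    ring

include hb in
lemma aeval_D_sub_mem {φ : A →ₗ[k] k} (hφ : φ 1 = 0) {n : ℕ} {f : MvPolynomial σ k}
    (hf : f.IsHomogeneous n) :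
    D φ (aeval b f) - aeval b (der b φ f) ∈ N k A (n - 1) := by
  have h0 : D φ (aeval b f) - aeval b (der b φ f) = ∑ s ∈ f.support, coeff s f •
      (D φ (aeval b (monomial s (1 : k))) - aeval b (der b φ (monomial s (1 : k)))) := by
    conv_lhs => rw [f.as_sum]
    rw [map_sum, map_sum, map_sum, map_sum, ← Finset.sum_sub_distrib]
    refine Finset.sum_congr rfl fun s _ => ?_
    have h1 : monomial s (coeff s f) = (coeff s f) • monomial s (1 : k) := by
      rw [smul_monomial, smul_eq_mul, mul_one]
    rw [h1, map_smul, map_smul, Derivation.map_smul, map_smul, smul_sub]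
  rw [h0]
  refine Submodule.sum_mem _ fun s hs => Submodule.smul_mem _ _ (monomial_D_sub_mem b hb hφ n s ?_)
  by_contra hne
  exact (mem_support_iff.1 hs) (hf.coeff_eq_zero hne)

include hb in
/-- dual functionals -/
lemma exists_dual (hli : LinearIndependent k b) [DecidableEq σ] (i : σ) :
    ∃ φ : A →ₗ[k] k, φ 1 = 0 ∧ ∀ j, φ (b j) = Pi.single (M := fun _ => k) i 1 j := by
  obtain ⟨ψ, hψ⟩ := LinearMap.exists_extend ((Finsupp.lapply i : (σ →₀ k) →ₗ[k] k) ∘ₗ hli.repr)
  have hψ' : ∀ j, ψ (b j) = Pi.single (M := fun _ => k) i 1 j := by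
    intro j
    have h1 := congr($hψ ⟨b j, Submodule.subset_span ⟨j, rfl⟩⟩)
    have h2 : hli.repr ⟨b j, Submodule.subset_span ⟨j, rfl⟩⟩ = Finsupp.single j 1 :=
      hli.repr_eq_single j _ rfl
    rw [LinearMap.comp_apply, LinearMap.comp_apply] at h1
    change ψ (b j) = (hli.repr ⟨b j, Submodule.subset_span ⟨j, rfl⟩⟩) i at h1
    rw [h1, h2, Finsupp.single_apply, Pi.single_apply]
  refine ⟨ψ - ψ 1 • eps, by simp, fun j => ?_⟩
  rw [LinearMap.sub_apply, LinearMap.smul_apply, eps_prim (hb j), smul_zero, sub_zero, hψ']

lemma nontrivial_of_bialgebra (k : Type u) (A : Type v) [Field k] [CommRing A] [Bialgebra k A] :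
    Nontrivial A := by
  refine ⟨⟨0, 1, fun h => ?_⟩⟩
  have := congrArg (eps (k := k) (A := A)) h
  rw [map_zero, eps_one] at this
  exact zero_ne_one this

variable (p : ℕ) [hp : Fact p.Prime] [CharP k p]

/-- restricted polynomials -/
def Restr (f : MvPolynomial σ k) : Prop := ∀ s, coeff s f ≠ 0 → ∀ i, s i < p

include hb in
/-- **Restricted PBW**, homogeneous form. -/
theorem restr_eq_zero (hli : LinearIndependent k b) (n : ℕ) : ∀ f : MvPolynomial σ k, f.IsHomogeneous n →
    Restr p f → aeval b f ∈ N k A n → f = 0 := by
  classical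
  have := nontrivial_of_bialgebra k A
  induction n with
  | zero =>
    intro f hf _ h
    rw [mem_N_zero] at h
    have h1 : f = C (coeff 0 f) := totalDegree_eq_zero_iff_eq_C.1 ((totalDegree_zero_iff_isHomogeneous _).2 hf)
    rw [h1, aeval_C] at h
    rw [h1, (map_eq_zero_iff _ (algebraMap k A).injective).1 h, C_0]
  | succ n ih =>
    intro f hf hr h
    have h0 : ∀ i, pderiv i f = 0 := by
      intro i
      obtain ⟨φ, hφ1, hφ⟩ := exists_dual b hb hli i
      have hd : der b φ = pderiv i := by
        rw [pderiv_def, der]
        congr 1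
        funext j
        rw [hφ j, Pi.single_apply, Pi.single_apply]
        split_ifs <;> simp
      have h1 : (pderiv i f).IsHomogeneous n := hf.pderiv
      refine ih _ h1 ?_ ?_
      · intro s hs j
        rw [coeff_pderiv] at hs
        have := hr (s + Finsupp.single i 1) (fun h => hs (by rw [h, zero_mul])) j
        rw [Finsupp.add_apply] at this
        exact lt_of_le_of_lt (Nat.le_add_right _ _) this
      · have h2 := aeval_D_sub_mem b hb hφ1 hf
        rw [hd, Nat.add_sub_cancel] at h2
        have h3 := h φ hφ1
        have := sub_mem h3 h2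
        rwa [sub_sub_cancel] at this
    by_contra hne
    obtain ⟨s, hs⟩ := MvPolynomial.ne_zero_iff.1 hne
    have hdeg : s.degree = n + 1 := by
      by_contra h'
      exact hs (hf.coeff_eq_zero h')
    have hs0 : s ≠ 0 := by
      rintro rfl
      simp at hdeg
    obtain ⟨i, hi⟩ := Finsupp.ne_iff.1 hs0
    have h1 : (s - Finsupp.single i 1) + Finsupp.single i 1 = s := sub_single_add hi
    have h2 := congrArg (coeff (s - Finsupp.single i 1)) (h0 i)
    rw [coeff_pderiv, h1, coeff_zero] at h2
    have h3 : (s - Finsupp.single i 1 : σ →₀ ℕ) i + 1 = s i := by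
      have := congrArg (fun t : σ →₀ ℕ => t i) h1
      simpa using this
    have h4 : (((s - Finsupp.single i 1 : σ →₀ ℕ) i : ℕ) : k) + 1 = ((s i : ℕ) : k) := by
      rw [← h3]; push_cast; rfl
    rw [h4] at h2
    rcases mul_eq_zero.1 h2 with h5 | h5
    · exact hs h5
    · rw [CharP.cast_eq_zero_iff k p] at h5
      exact hi (Nat.eq_zero_of_dvd_of_lt h5 (hr s hs i))

include hb in
/-- **Restricted PBW**, filtered form: a restricted polynomial in linearly independent primitive
elements lies in the `n`-th step of the filtration only if it has degree `≤ n`. -/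
theorem totalDegree_le_of_mem (hli : LinearIndependent k b) {n : ℕ} {f : MvPolynomial σ k}
    (hr : Restr p f) (h : aeval b f ∈ N k A (n + 1)) : f.totalDegree ≤ n := by
  by_contra hlt
  push Not at hlt
  set d := f.totalDegree with hd
  have h1 : f = homogeneousComponent d f + ∑ j ∈ Finset.range d, homogeneousComponent j f := by
    conv_lhs => rw [← sum_homogeneousComponent f, ← hd, Finset.sum_range_succ, add_comm]
  have h2 : aeval b (∑ j ∈ Finset.range d, homogeneousComponent j f) ∈ N k A d := by
    rw [map_sum]
    refine Submodule.sum_mem _ fun j hj => ?_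
    exact N_mono (Finset.mem_range.1 hj) (aeval_mem b hb (homogeneousComponent_isHomogeneous j f))
  have h3 : aeval b (homogeneousComponent d f) ∈ N k A d := by
    have h4 : aeval b (homogeneousComponent d f) = aeval b f -
        aeval b (∑ j ∈ Finset.range d, homogeneousComponent j f) := by
      conv_rhs => rw [h1]
      rw [map_add]
      have : homogeneousComponent d f + ∑ j ∈ Finset.range d, homogeneousComponent j f = f := h1.symm
      simp only [this]
      rw [add_sub_cancel_right]
    rw [h4]
    exact sub_mem (N_mono hlt h) h2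
  have h5 : homogeneousComponent d f = 0 := by
    refine restr_eq_zero b hb p hli d _ (homogeneousComponent_isHomogeneous d f) ?_ h3
    intro s hs
    rw [coeff_homogeneousComponent] at hs
    refine hr s ?_
    intro h0
    rw [h0] at hs
    simp at hs
  have hf0 : f ≠ 0 := by
    rintro rfl
    rw [totalDegree_zero] at hd
    omega
  obtain ⟨s, hs, hsd⟩ := Finset.exists_mem_eq_sup f.support (support_nonempty.2 hf0)
    (fun s => s.degree)
  have h6 : s.degree = d := by
    rw [hd, ← hsd]
    rfl
  have h7 := congrArg (coeff s) h5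
  rw [coeff_homogeneousComponent, if_pos h6, coeff_zero] at h7
  exact (mem_support_iff.1 hs) h7

include hb in
theorem restr_injective (hli : LinearIndependent k b) {f : MvPolynomial σ k}
    (hr : Restr p f) (h : aeval b f = 0) : f = 0 := by
  have := nontrivial_of_bialgebra k A
  have h1 : f.totalDegree ≤ 0 := totalDegree_le_of_mem b hb p hli hr (by rw [h]; exact zero_mem _)
  have h2 : f = C (coeff 0 f) := totalDegree_eq_zero_iff_eq_C.1 (Nat.le_zero.1 h1)
  rw [h2, aeval_C] at h
  rw [h2, (map_eq_zero_iff _ (algebraMap k A).injective).1 h, C_0]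

end

end K542.Filt
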