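import Groth.Agent.PRed.K542.PBW

/-!
# The universal property of a primitively generated commutative Hopf algebra

Let `L` be a subspace of the primitive elements stable under `x ↦ x ^ p`, generating `A`. Then `L` is
the space of all primitive elements and algebra maps `A → R` are the same as linear maps `μ : L → R`
with `μ (x ^ p) = μ x ^ p`.
-/

set_option autoImplicit false

universe u v w

open TensorProduct MvPolynomial

namespace K542.Filt

section red

variable {k : Type u} [Field k] {σ : Type v} (p : ℕ) [hp : Fact p.Prime]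
  (l : σ → MvPolynomial σ k) (hl : ∀ i, (l i).IsHomogeneous 1)

/-- the ideal generated by `X_i ^ p - l_i` -/
noncomputable def J : Ideal (MvPolynomial σ k) := Ideal.span (Set.range fun i => X i ^ p - l i)

/-- the polynomials congruent to restricted ones -/
noncomputable def S : Submodule k (MvPolynomial σ k) where
  carrier := {f | ∃ g, Restr p g ∧ f - g ∈ J p l}
  add_mem' := by
    rintro f f' ⟨g, hg, h⟩ ⟨g', hg', h'⟩
    refine ⟨g + g', ?_, ?_⟩
    · intro s hs i
      by_cases h0 : coeff s g = 0
      · rw [coeff_add, h0, zero_add] at hs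
        exact hg' s hs i
      · exact hg s h0 i
    · have := add_mem h h'
      convert this using 1
      ring
  zero_mem' := ⟨0, fun s hs => absurd (coeff_zero s) hs, by rw [sub_zero]; exact zero_mem _⟩
  smul_mem' := by
    rintro c f ⟨g, hg, h⟩
    refine ⟨c • g, ?_, ?_⟩
    · intro s hs i
      rw [coeff_smul] at hs
      exact hg s (fun h => hs (by rw [h, smul_zero])) i
    · rw [← smul_sub, smul_eq_C_mul]
      exact Ideal.mul_mem_left _ _ h

lemma mem_S {f : MvPolynomial σ k} : f ∈ S p l ↔ ∃ g, Restr p g ∧ f - g ∈ J p l := Iff.rfl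

include hl hp in
lemma homogeneous_mem_S (n : ℕ) : ∀ f : MvPolynomial σ k, f.IsHomogeneous n → f ∈ S p l := by
  classical
  induction n using Nat.strong_induction_on with
  | _ n ih =>
    intro f hf
    rw [f.as_sum]
    refine Submodule.sum_mem _ fun s hs => ?_
    have h1 : monomial s (coeff s f) = (coeff s f) • monomial s (1 : k) := by
      rw [smul_monomial, smul_eq_mul, mul_one]
    rw [h1]
    refine Submodule.smul_mem _ _ ?_
    have hdeg : s.degree = n := by
      by_contra hne
      exact (mem_support_iff.1 hs) (hf.coeff_eq_zero hne)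
    by_cases hr : ∀ i, s i < p
    · refine ⟨monomial s 1, ?_, by rw [sub_self]; exact zero_mem _⟩
      intro t ht
      rw [coeff_monomial] at ht
      split_ifs at ht with h
      · subst h; exact hr
      · exact absurd rfl ht
    · push Not at hr
      obtain ⟨i, hi⟩ := hr
      obtain ⟨t, ht⟩ : ∃ t : σ →₀ ℕ, s = Finsupp.single i p + t := by
        refine ⟨s - Finsupp.single i p, ?_⟩
        ext j
        rw [Finsupp.add_apply, Finsupp.tsub_apply, Finsupp.single_apply]
        split_ifs with h
        · subst h; omega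
        · omega
      have h2 : monomial s (1 : k) = X i ^ p * monomial t 1 := by
        rw [ht, X_pow_eq_monomial, monomial_mul, one_mul]
      have hdt : t.degree + p = n := by
        rw [← hdeg, ht, map_add, Finsupp.degree_single, add_comm]
      have h3 : (l i * monomial t 1).IsHomogeneous (1 + t.degree) :=
        (hl i).mul (isHomogeneous_monomial _ rfl)
      have hp2 := hp.out.two_le
      obtain ⟨g, hg, hgJ⟩ := ih (1 + t.degree) (by omega) _ h3
      refine ⟨g, hg, ?_⟩
      have h4 : monomial s (1 : k) - g = monomial t 1 * (X i ^ p - l i) + (l i * monomial t 1 - g) := by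
        rw [h2]; ring
      rw [h4]
      exact add_mem (Ideal.mul_mem_left _ _ (Ideal.subset_span ⟨i, rfl⟩)) hgJ

include hl hp in
lemma mem_S_of (f : MvPolynomial σ k) : f ∈ S p l := by
  rw [← sum_homogeneousComponent f]
  exact Submodule.sum_mem _ fun j _ =>
    homogeneous_mem_S p l hl j _ (homogeneousComponent_isHomogeneous j f)

end red

variable {k : Type u} {A : Type v} [Field k] [CommRing A] [Bialgebra k A]
variable (p : ℕ) [hp : Fact p.Prime] [CharP k p]

section ker

variable {σ : Type w} (b : σ → A) (hb : ∀ i, b i ∈ prim k A) (hli : LinearIndependent k b)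
  (l : σ → MvPolynomial σ k) (hl : ∀ i, (l i).IsHomogeneous 1) (hlb : ∀ i, aeval b (l i) = b i ^ p)

include hlb in
omit hp [CharP k p] in
lemma J_le_ker {f : MvPolynomial σ k} (hf : f ∈ J p l) : aeval b f = 0 := by
  have h1 : J p l ≤ RingHom.ker (aeval b : MvPolynomial σ k →ₐ[k] A) := by
    rw [J, Ideal.span_le]
    rintro _ ⟨i, rfl⟩
    rw [SetLike.mem_coe, RingHom.mem_ker, map_sub, map_pow, aeval_X, hlb, sub_self]
  exact h1 hf

include hb hli hl hlb in
lemma ker_le_J {f : MvPolynomial σ k} (hf : aeval b f = 0) : f ∈ J p l := by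
  obtain ⟨g, hg, hJ⟩ := mem_S_of p l hl f
  have h1 := J_le_ker p b l hlb hJ
  rw [map_sub, hf, zero_sub, neg_eq_zero] at h1
  have h2 := restr_injective b hb p hli hg h1
  rwa [h2, sub_zero] at hJ

end ker

section main

variable (L : Submodule k A) (hL : L ≤ prim k A) (hF : ∀ x ∈ L, x ^ p ∈ L)

omit [CharP k p] hp [Bialgebra k A] in
/-- a basis of an `F`-stable subspace with the relations expressing the `p`-th powers -/
lemma exists_rel [Algebra k A] (L : Submodule k A) (hF : ∀ x ∈ L, x ^ p ∈ L) :
    ∃ (σ : Type v) (b : Module.Basis σ k L) (l : σ → MvPolynomial σ k),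
      (∀ i, (l i).IsHomogeneous 1) ∧ (∀ i, aeval (fun j => (b j : A)) (l i) = (b i : A) ^ p) := by
  let b := Module.Basis.ofVectorSpace k L
  refine ⟨_, b, fun i => (b.repr ⟨(b i : A) ^ p, hF _ (b i).2⟩).sum fun j c => C c * X j, ?_, ?_⟩
  · intro i
    refine IsHomogeneous.sum _ _ _ fun j _ => ?_
    exact isHomogeneous_C_mul_X _ _
  · intro i
    simp only [Finsupp.sum]
    rw [map_sum]
    have h1 := b.linearCombination_repr ⟨(b i : A) ^ p, hF _ (b i).2⟩
    have h2 := congrArg Subtype.val h1
    change _ = (b i : A) ^ p at h2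
    refine Eq.trans ?_ h2
    rw [Finsupp.linearCombination_apply, Finsupp.sum]
    generalize b.repr ⟨(b i : A) ^ p, hF _ (b i).2⟩ = c
    rw [← Submodule.subtype_apply, map_sum]
    refine Finset.sum_congr rfl fun j _ => ?_
    rw [map_mul, aeval_C, aeval_X, ← Algebra.smul_def]
    rfl

omit [CharP k p] hp [Bialgebra k A] in
lemma adjoin_basis [Algebra k A] (L : Submodule k A) {σ : Type w} (b : Module.Basis σ k L) :
    Algebra.adjoin k (Set.range fun j => (b j : A)) = Algebra.adjoin k (L : Set A) := by
  apply le_antisymm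
  · refine Algebra.adjoin_mono ?_
    rintro _ ⟨j, rfl⟩
    exact (b j).2
  · rw [Algebra.adjoin_le_iff]
    intro x hx
    have h1 := congrArg Subtype.val (b.linearCombination_repr ⟨x, hx⟩)
    change _ = x at h1
    rw [← h1, Finsupp.linearCombination_apply, Finsupp.sum, ← Submodule.subtype_apply, map_sum]
    refine sum_mem fun j _ => ?_
    rw [map_smul]
    exact Subalgebra.smul_mem _ (Algebra.subset_adjoin (Set.mem_range_self j)) _

include hL hF in
/-- **An `F`-stable space of primitives contains all the primitive elements that it generates.** -/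
theorem mem_of_mem_adjoin {x : A} (hx : x ∈ prim k A) (hxL : x ∈ Algebra.adjoin k (L : Set A)) : x ∈ L := by
  obtain ⟨σ, b, l, hl, hlb⟩ := exists_rel p L hF
  rw [← adjoin_basis L b, Algebra.adjoin_range_eq_range_aeval] at hxL
  obtain ⟨f, hf⟩ := hxL
  change aeval _ f = x at hf
  obtain ⟨g, hg, hJ⟩ := mem_S_of p l hl f
  have h1 := J_le_ker p _ l hlb hJ
  rw [map_sub, hf, sub_eq_zero] at h1
  have hbli : LinearIndependent k (fun j => (b j : A)) :=
    b.linearIndependent.map' L.subtype (Submodule.ker_subtype L)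
  have h2 : g.totalDegree ≤ 1 := by
    refine totalDegree_le_of_mem _ (fun i => hL (b i).2) p hbli hg ?_
    rw [← h1]
    exact prim_le_N_two hx
  have h3 : aeval (fun j => (b j : A)) g - algebraMap k A (coeff 0 g) ∈ L := by
    classical
    have h4 : aeval (fun j => (b j : A)) g - algebraMap k A (coeff 0 g) =
        ∑ s ∈ g.support, (coeff s g • (aeval (fun j => (b j : A)) (monomial s (1 : k))) -
          if s = 0 then algebraMap k A (coeff 0 g) else 0) := by
      rw [Finset.sum_sub_distrib]
      congr 1
      · conv_lhs => rw [g.as_sum, map_sum]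
        refine Finset.sum_congr rfl fun s _ => ?_
        rw [← map_smul, smul_monomial, smul_eq_mul, mul_one]
      · rw [Finset.sum_ite_eq']
        split_ifs with h0
        · rfl
        · rw [notMem_support_iff.1 h0, map_zero]
    rw [h4]
    refine Submodule.sum_mem _ fun s hs => ?_
    split_ifs with h0
    · subst h0
      rw [aeval_monomial]
      simp [Algebra.smul_def]
    · have h5 : s.degree ≤ 1 := le_trans (le_totalDegree hs) h2
      obtain ⟨i, hi⟩ := Finsupp.ne_iff.1 h0
      have h6 := sub_single_add hi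
      have h7 : (s - Finsupp.single i 1).degree = 0 := by
        have := congrArg Finsupp.degree h6
        rw [map_add, Finsupp.degree_single] at this
        omega
      rw [(Finsupp.degree_eq_zero_iff _).1 h7, zero_add] at h6
      rw [← h6, sub_zero]
      refine Submodule.smul_mem _ _ ?_
      change aeval _ (X i) ∈ L
      rw [aeval_X]
      exact (b i).2
  rw [← h1] at h3
  have h4 : coeff 0 g = 0 := by
    have h5 := eps_prim (hL h3)
    rw [map_sub, eps_prim hx, zero_sub, neg_eq_zero] at h5
    have h6 : eps (k := k) (algebraMap k A (coeff 0 g)) = coeff 0 g := by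
      rw [Algebra.algebraMap_eq_smul_one, map_smul, eps_one, smul_eq_mul, mul_one]
    rw [← h6, h5]
  rwa [h4, map_zero, sub_zero] at h3

include hL in
/-- **Universal property** of a primitively generated Hopf algebra. -/
theorem exists_algHom (hgen : Algebra.adjoin k (L : Set A) = ⊤) {R : Type w} [CommRing R] [Algebra k R]
    (μ : L →ₗ[k] R) (hμ : ∀ x : L, μ ⟨(x : A) ^ p, hF x x.2⟩ = μ x ^ p) :
    ∃ θ : A →ₐ[k] R, ∀ x : L, θ x = μ x := by
  obtain ⟨σ, b, l, hl, hlb⟩ := exists_rel p L hF
  have hbli : LinearIndependent k (fun j => (b j : A)) :=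
    b.linearIndependent.map' L.subtype (Submodule.ker_subtype L)
  obtain ⟨q, hqd⟩ : ∃ q : MvPolynomial σ k →ₐ[k] A, q = aeval (fun j => (b j : A)) := ⟨_, rfl⟩
  obtain ⟨r, hrd⟩ : ∃ r : MvPolynomial σ k →ₐ[k] R, r = aeval (fun j => μ (b j)) := ⟨_, rfl⟩
  have hqX : ∀ j, q (X j) = (b j : A) := fun j => by rw [hqd]; exact aeval_X _ _
  have hrX : ∀ j, r (X j) = μ (b j) := fun j => by rw [hrd]; exact aeval_X _ _
  have hq : Function.Surjective q := by
    have h1 : q.range = ⊤ := by
      rw [hqd, ← Algebra.adjoin_range_eq_range_aeval, adjoin_basis, hgen]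
    exact (AlgHom.range_eq_top q).1 h1
  let T : Submodule k (MvPolynomial σ k) :=
    { carrier := {f | ∃ y : L, (y : A) = q f ∧ μ y = r f}
      add_mem' := by
        rintro x y ⟨u, hu, hu'⟩ ⟨v, hv, hv'⟩
        exact ⟨u + v, by rw [map_add, ← hu, ← hv]; rfl, by rw [map_add, map_add, hu', hv']⟩
      zero_mem' := ⟨0, by rw [map_zero]; rfl, by rw [map_zero, map_zero]⟩
      smul_mem' := by
        rintro c x ⟨u, hu, hu'⟩
        exact ⟨c • u, by rw [map_smul, ← hu]; rfl, by rw [map_smul, map_smul, hu']⟩ }
  have hlin : ∀ f : MvPolynomial σ k, f.IsHomogeneous 1 → ∃ y : L, (y : A) = q f ∧ μ y = r f := by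
    intro f hf
    have h1 : f ∈ Submodule.span k (Set.range (X : σ → MvPolynomial σ k)) := by
      rw [← homogeneousSubmodule_one_eq_span_X]
      exact hf
    have h2 : Submodule.span k (Set.range (X : σ → MvPolynomial σ k)) ≤ T := by
      rw [Submodule.span_le]
      rintro _ ⟨i, rfl⟩
      exact ⟨b i, (hqX i).symm, (hrX i).symm⟩
    exact h2 h1
  have hker : ∀ f, q f = 0 → r f = 0 := by
    intro f hf
    rw [hqd] at hf
    have h1 := ker_le_J p _ (fun i => hL (b i).2) hbli l hl hlb hf
    have h2 : J p l ≤ RingHom.ker r := by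
      rw [J, Ideal.span_le]
      rintro _ ⟨i, rfl⟩
      rw [SetLike.mem_coe, RingHom.mem_ker, map_sub, map_pow, sub_eq_zero]
      obtain ⟨y, hy, hy'⟩ := hlin (l i) (hl i)
      have h3 : y = ⟨(b i : A) ^ p, hF _ (b i).2⟩ := Subtype.ext (hy.trans (by rw [hqd]; exact hlb i))
      rw [hrX, ← hμ, ← h3, hy']
    exact h2 h1
  obtain ⟨θ, hθ⟩ : ∃ θ : A →ₐ[k] R, ∀ f, θ (q f) = r f :=
    ⟨AlgHom.liftOfSurjective q hq r hker, fun f => AlgHom.liftOfSurjective_apply q hq r hker f⟩
  have hfin : θ.toLinearMap ∘ₗ L.subtype = μ := by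
    refine b.ext fun j => ?_
    have h2 := hθ (X j)
    rw [hqX, hrX] at h2
    exact h2
  exact ⟨θ, fun x => congr($hfin x)⟩

end main

end K542.Filt
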