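import Groth.Agent.PRed.K542.Gen
import Mathlib.RingTheory.Noetherian.Basic
import Mathlib.RingTheory.Noetherian.Nilpotent
import Mathlib.RingTheory.Artinian.Module
import Mathlib.Algebra.CharP.Algebra
import Mathlib.RingTheory.Finiteness.Ideal

/-!
# Commutative cocommutative Hopf algebras killed by `p` and the Verschiebung

Let `A` be a commutative cocommutative bialgebra over a field of characteristic `p`, such that the
`p`-th convolution power of the identity is trivial and such that the `p`-th powers of linearly
independent elements are linearly independent.  Then `φ ^ p = 0` in the dual algebra whenever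
`φ 1 = 0`; consequently the coradical filtration exhausts `A` and `A` is generated by its primitive
elements.
-/

set_option autoImplicit false

universe u v w

open TensorProduct HopfRep WithConv Groth.Agent.Books.DualAct

namespace K542.Filt

variable {k : Type u} {A : Type v} [Field k] [CommRing A] [Bialgebra k A]

/-- a nil ideal is nilpotent modulo an ideal of finite codimension -/
lemma exists_prod_mem {k R : Type*} [Field k] [CommRing R] [Algebra k R] (I m : Ideal R)
    [Module.Finite k (R ⧸ I)] (hm : ∀ x ∈ m, ∃ n, x ^ n = 0) :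
    ∃ n, ∀ l : List R, l.length = n → (∀ x ∈ l, x ∈ m) → l.prod ∈ I := by
  have hnoeth : IsNoetherianRing (R ⧸ I) := IsNoetherianRing.of_finite k (R ⧸ I)
  have hnilp : IsNilpotent (m.map (Ideal.Quotient.mk I)) := by
    rw [Ideal.FG.isNilpotent_iff_le_nilradical (IsNoetherian.noetherian _)]
    rw [Ideal.map_le_iff_le_comap]
    intro φ hφ
    rw [Ideal.mem_comap, mem_nilradical]
    obtain ⟨n, hn⟩ := hm φ hφ
    exact ⟨n, by rw [← map_pow, hn, map_zero]⟩
  obtain ⟨n, hn⟩ := hnilp
  have hn' : m ^ n ≤ I := by
    rw [← Ideal.map_pow, Ideal.zero_eq_bot, Ideal.map_eq_bot_iff_le_ker, Ideal.mk_ker] at hn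
    exact hn
  refine ⟨n, fun l hl hlm => hn' ?_⟩
  have : ∀ l : List R, (∀ x ∈ l, x ∈ m) → l.prod ∈ m ^ l.length := by
    intro l
    induction l with
    | nil => intro _; simp
    | cons x l ih =>
      intro h
      rw [List.prod_cons, List.length_cons, pow_succ']
      exact Ideal.mul_mem_mul (h x (by simp)) (ih fun y hy => h y (by simp [hy]))
  rw [← hl]
  exact this l hlm

section conv

variable {R : Type w} [CommRing R] [Algebra k R]

/-- convolution products at an element of a subcomodule only depend on the restriction of the first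
factor -/
lemma conv_apply_eq_zero (C : Submodule k A) (hC : IsSubcomod (k := k) (A := A) C)
    (h g : WithConv (A →ₗ[k] R)) (hh : ∀ c ∈ C, h c = 0) {a : A} (ha : a ∈ C) : (h * g) a = 0 := by
  obtain ⟨y, hy⟩ := hC a ha
  change C.subtype.rTensor A y = CoalgebraStruct.comul (R := k) a at hy
  rw [LinearMap.convMul_apply, ← hy]
  have key : ∀ y : C ⊗[k] A, LinearMap.mul' k R (TensorProduct.map h.ofConv g.ofConv
      (C.subtype.rTensor A y)) = 0 := by
    intro y
    induction y with
    | zero => simp
    | tmul c x =>
      have := hh c.1 c.2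
      change h.ofConv c.1 = 0 at this
      simp [this]
    | add x y hx hy' => rw [map_add, map_add, map_add, hx, hy', add_zero]
  exact key y

lemma conv_pow_apply_eq_zero (C : Submodule k A) (hC : IsSubcomod (k := k) (A := A) C)
    (h : WithConv (A →ₗ[k] R)) (hh : ∀ c ∈ C, h c = 0) {a : A} (ha : a ∈ C) {n : ℕ} (hn : n ≠ 0) :
    (h ^ n) a = 0 := by
  obtain ⟨m, rfl⟩ := Nat.exists_eq_succ_of_ne_zero hn
  rw [Nat.succ_eq_add_one, pow_succ']
  exact conv_apply_eq_zero C hC h _ hh ha

/-- extension of scalars of a linear form -/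
def ext (R : Type w) [CommRing R] [Algebra k R] (φ : A →ₗ[k] k) : WithConv (A →ₗ[k] R) :=
  toConv (Algebra.linearMap k R ∘ₗ φ)

lemma ext_apply (φ : A →ₗ[k] k) (a : A) : ext R φ a = algebraMap k R (φ a) := rfl

/-- evaluation at an element -/
def evA (a : A) : WithConv (A →ₗ[k] R) →ₗ[R] R where
  toFun f := f a
  map_add' _ _ := rfl
  map_smul' _ _ := rfl

lemma evA_apply (a : A) (f : WithConv (A →ₗ[k] R)) : evA a f = f a := rfl

lemma ext_pow_apply (φ : A →ₗ[k] k) (n : ℕ) (a : A) :
    (ext R φ ^ n) a = algebraMap k R (((toConv φ) ^ n) a) := by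
  induction n generalizing a with
  | zero => rfl
  | succ n ih =>
    rw [pow_succ, pow_succ, LinearMap.convMul_apply, LinearMap.convMul_apply]
    have key : ∀ x : A ⊗[k] A, LinearMap.mul' k R (TensorProduct.map (ext R φ ^ n).ofConv
        (ext R φ).ofConv x) = algebraMap k R (LinearMap.mul' k k
          (TensorProduct.map ((toConv φ) ^ n).ofConv (toConv φ).ofConv x)) := by
      intro x
      induction x with
      | zero => simp
      | tmul a b =>
        have h1 := ih a
        change (ext R φ ^ n).ofConv a = _ at h1
        rw [TensorProduct.map_tmul, LinearMap.mul'_apply, h1]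
        simp [ext]
      | add x y hx hy => rw [map_add, map_add, hx, hy, map_add, map_add, map_add]
    exact key _

end conv

section main

variable [Coalgebra.IsCocomm k A] (p : ℕ) [hp : Fact p.Prime] [CharP k p]

section

variable {R : Type w} [CommRing R] [Algebra k R] [Nontrivial R]

instance nontrivial_conv [Nontrivial A] : Nontrivial (WithConv (A →ₗ[k] R)) := by
  refine ⟨1, 0, fun h => ?_⟩
  have := congr($h (1 : A))
  rw [LinearMap.convOne_apply] at this
  have h1 : CoalgebraStruct.counit (R := k) (1 : A) = 1 := Bialgebra.counit_one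
  rw [h1, map_one] at this
  exact one_ne_zero this

/-- The `p`-th convolution power of a linear map on a finite-dimensional subcomodule in terms of a
basis. -/
theorem conv_pow_p_apply (C : Submodule k A) (hC : IsSubcomod (k := k) (A := A) C) {ι : Type*}
    [Fintype ι] (c : Module.Basis ι k C) (φ : ι → A →ₗ[k] k)
    (hφ : ∀ i j, φ i (c j) = Finsupp.single j (1 : k) i) (f : WithConv (A →ₗ[k] R)) {a : A} (ha : a ∈ C) :
    (f ^ p) a = ∑ i, ((toConv (φ i)) ^ p) a • (f (c i)) ^ p := by
  classical
  have hA : Nontrivial A := by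
    refine ⟨1, 0, fun h => ?_⟩
    have h1 : CoalgebraStruct.counit (R := k) (1 : A) = 1 := Bialgebra.counit_one
    rw [h, map_zero] at h1
    exact zero_ne_one h1
  have hchar : CharP (WithConv (A →ₗ[k] R)) p :=
    charP_of_injective_algebraMap (algebraMap k (WithConv (A →ₗ[k] R))).injective p
  let h : WithConv (A →ₗ[k] R) := f - ∑ i, f (c i) • ext R (φ i)
  have hf : f = h + ∑ i, f (c i) • ext R (φ i) := by simp [h]
  have hh : ∀ x ∈ C, h x = 0 := by
    intro x hx
    have hx' : (⟨x, hx⟩ : C) = ∑ i, c.repr ⟨x, hx⟩ i • c i := (c.sum_repr _).symm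
    have h1 : x = ∑ i, c.repr ⟨x, hx⟩ i • (c i : A) := by
      have := congr(C.subtype $hx')
      rw [map_sum] at this
      simpa only [map_smul, Submodule.subtype_apply] using this
    have h2 : ∀ i, φ i x = c.repr ⟨x, hx⟩ i := by
      intro i
      conv_lhs => rw [h1]
      rw [map_sum]
      simp only [map_smul, hφ, smul_eq_mul]
      rw [Finset.sum_eq_single i]
      · simp
      · intro j _ hji
        simp [Finsupp.single_eq_of_ne (Ne.symm hji)]
      · simp
    rw [← evA_apply, map_sub, map_sum, sub_eq_zero]
    simp only [map_smul, evA_apply, ext_apply, h2, smul_eq_mul]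
    have h3 : f x = ∑ i, c.repr ⟨x, hx⟩ i • f (c i) := by
      change f.ofConv x = ∑ i, c.repr ⟨x, hx⟩ i • f.ofConv (c i)
      conv_lhs => rw [h1]
      rw [map_sum]
      simp only [map_smul]
    rw [h3]
    refine Finset.sum_congr rfl fun i _ => ?_
    rw [Algebra.smul_def, mul_comm]
  have h4 : f ^ p = h ^ p + ∑ i, (f (c i)) ^ p • (ext R (φ i)) ^ p := by
    conv_lhs => rw [hf]
    rw [add_pow_char, sum_pow_char]
    simp only [smul_pow]
  rw [h4, ← evA_apply, map_add, map_sum, evA_apply, conv_pow_apply_eq_zero C hC h hh ha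
    hp.out.ne_zero, zero_add]
  refine Finset.sum_congr rfl fun i _ => ?_
  rw [map_smul, evA_apply, ext_pow_apply, smul_eq_mul, Algebra.smul_def, mul_comm]

end

/-- **The Verschiebung of a reduced group killed by `p` is zero**: if `A` is killed by `p` and the
`p`-th powers of linearly independent elements are linearly independent, then `φ ^ p = 0` in the dual
algebra for every `φ` with `φ 1 = 0`. -/
theorem conv_pow_eq_zero (htor : (toConv (LinearMap.id : A →ₗ[k] A)) ^ p = 1)
    (hli : ∀ {n : ℕ} (c : Fin n → A), LinearIndependent k c → LinearIndependent k (fun i => c i ^ p))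
    (φ : A →ₗ[k] k) (hφ1 : φ 1 = 0) : (toConv φ) ^ p = 0 := by
  classical
  have hA : Nontrivial A := by
    refine ⟨1, 0, fun h => ?_⟩
    have h1 : CoalgebraStruct.counit (R := k) (1 : A) = 1 := Bialgebra.counit_one
    rw [h, map_zero] at h1
    exact zero_ne_one h1
  have hcharA : CharP A p := charP_of_injective_algebraMap (algebraMap k A).injective p
  ext a
  -- a finite-dimensional subcomodule containing `a` and `1`
  obtain ⟨C₁, ha₁, hC₁fin, hC₁⟩ := exists_finite_subcomod (k := k) (A := A) a
  obtain ⟨C₂, h1₂, hC₂fin, hC₂⟩ := exists_finite_subcomod (k := k) (A := A) (1 : A)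
  let C := C₁ ⊔ C₂
  have hC : IsSubcomod (k := k) (A := A) C := isSubcomod_sup hC₁ hC₂
  have hCfin : Module.Finite k C := inferInstanceAs (Module.Finite k (C₁ ⊔ C₂ : Submodule k A))
  have ha : a ∈ C := Submodule.mem_sup_left ha₁
  have h1 : (1 : A) ∈ C := Submodule.mem_sup_right h1₂
  let c := Module.finBasis k C
  choose ψ hψ using fun i => (c.coord i).exists_extend
  have hψ' : ∀ i j, ψ i (c j) = Finsupp.single j (1 : k) i := by
    intro i j
    have := congr($(hψ i) (c j))
    rw [LinearMap.comp_apply, Submodule.subtype_apply] at this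
    rw [this, Module.Basis.coord_apply, Module.Basis.repr_self]
  have hid := conv_pow_p_apply p C hC c ψ hψ' (toConv (LinearMap.id : A →ₗ[k] A)) ha
  have hφ := conv_pow_p_apply p C hC c ψ hψ' (toConv φ) ha
  rw [htor, LinearMap.convOne_apply, Algebra.algebraMap_eq_smul_one] at hid
  -- expansion of `1`
  set u := c.repr ⟨1, h1⟩ with hu
  have h1' : (1 : A) = ∑ i, u i • (c i : A) := by
    have := congr(C.subtype $(c.sum_repr ⟨1, h1⟩))
    rw [map_sum] at this
    simpa only [map_smul, Submodule.subtype_apply] using this.symm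
  have h1p : (1 : A) = ∑ i, (u i) ^ p • (c i : A) ^ p := by
    conv_lhs => rw [← one_pow (M := A) p, h1', sum_pow_char]
    simp only [smul_pow]
  have hlin : LinearIndependent k (fun i => (c i : A) ^ p) :=
    hli _ (c.linearIndependent.map' C.subtype (Submodule.ker_subtype _))
  have hcoef : ∀ i, ((toConv (ψ i)) ^ p) a = CoalgebraStruct.counit (R := k) a * (u i) ^ p := by
    have h2 : ∑ i, (((toConv (ψ i)) ^ p) a - CoalgebraStruct.counit (R := k) a * (u i) ^ p) •
        ((c i : A) ^ p) = 0 := by
      simp only [sub_smul, Finset.sum_sub_distrib, mul_smul, ← Finset.smul_sum]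
      rw [← h1p, sub_eq_zero]
      exact hid.symm
    intro i
    have h3 := Fintype.linearIndependent_iff.1 hlin _ h2 i
    exact sub_eq_zero.1 h3
  have hfin : ((toConv φ) ^ p) a = 0 := by
    rw [hφ]
    simp only [hcoef, smul_eq_mul]
    have h4 : ∀ i, CoalgebraStruct.counit (R := k) a * u i ^ p * (toConv φ) (c i) ^ p =
        CoalgebraStruct.counit (R := k) a * (u i * φ (c i)) ^ p := by
      intro i
      change _ * φ (c i) ^ p = _
      ring
    simp only [h4]
    rw [← Finset.mul_sum, ← sum_pow_char]
    have h5 : ∑ i, u i * φ (c i) = φ 1 := by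
      conv_rhs => rw [h1', map_sum]
      simp only [map_smul, smul_eq_mul]
    rw [h5, hφ1, zero_pow hp.out.ne_zero, mul_zero]
  exact hfin

omit hp [CharP k p] in
lemma D_pow_eq_zero {φ : A →ₗ[k] k} (h : (toConv φ) ^ p = 0) : ((D φ) ^ p : Module.End k A) = 0 := by
  have := congr(dactHom k A A $h)
  rw [map_pow, map_zero, dactHom_apply] at this
  exact this

/-- if the augmentation ideal of the dual is nil then the coradical filtration is exhaustive -/
theorem exists_mem_N (hnil : ∀ φ : A →ₗ[k] k, φ 1 = 0 → (toConv φ) ^ p = 0) (a : A) :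
    ∃ n, a ∈ N k A n := by
  let R := WithConv (A →ₗ[k] k)
  -- the annihilator of `a`
  let I : Ideal R :=
    { carrier := {φ | D φ.ofConv a = 0}
      add_mem' := by
        intro φ ψ hφ hψ
        simp only [Set.mem_ofPred_eq] at hφ hψ ⊢
        rw [WithConv.ofConv_add, D_add, hφ, hψ, add_zero]
      zero_mem' := by
        simp only [Set.mem_ofPred_eq]
        have := D_smul (0 : k) (0 : A →ₗ[k] k) a
        rwa [zero_smul, zero_smul] at this
      smul_mem' := by
        intro φ ψ hψ
        simp only [Set.mem_ofPred_eq] at hψ ⊢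
        have := D_D φ.ofConv ψ.ofConv a
        rw [hψ, map_zero] at this
        exact this.symm }
  have hI : ∀ φ : R, φ ∈ I ↔ D φ.ofConv a = 0 := fun φ => Iff.rfl
  -- the augmentation ideal
  let m : Ideal R :=
    { carrier := {φ | φ.ofConv 1 = 0}
      add_mem' := by
        intro φ ψ hφ hψ
        simp only [Set.mem_ofPred_eq] at hφ hψ ⊢
        rw [WithConv.ofConv_add, LinearMap.add_apply, hφ, hψ, add_zero]
      zero_mem' := by
        simp only [Set.mem_ofPred_eq]
        rfl
      smul_mem' := by
        intro φ ψ hψ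
        simp only [Set.mem_ofPred_eq] at hψ ⊢
        have h1 : (φ * ψ) (1 : A) = φ.ofConv 1 * ψ.ofConv 1 := by
          rw [LinearMap.convMul_apply]
          have : CoalgebraStruct.comul (R := k) (1 : A) = (1 : A) ⊗ₜ[k] (1 : A) :=
            Bialgebra.comul_one
          rw [this]
          simp
        change (φ * ψ) (1 : A) = 0
        rw [h1, hψ, mul_zero] }
  obtain ⟨C, haC, hCfin, hC⟩ := exists_finite_subcomod (k := k) (A := A) a
  have hfin : Module.Finite k (R ⧸ I) := by
    let g : R →ₗ[k] A :=
      { toFun := fun φ => D φ.ofConv a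
        map_add' := fun φ ψ => D_add _ _ _
        map_smul' := fun c φ => D_smul _ _ _ }
    let g' : R →ₗ[k] C := g.codRestrict C (fun φ => (isSubcomod_iff C).1 hC _ a haC)
    have hker : Submodule.restrictScalars k I = LinearMap.ker g' := by
      ext φ
      rw [LinearMap.mem_ker]
      constructor
      · intro h
        exact Subtype.ext ((hI φ).1 h)
      · intro h
        exact (hI φ).2 (congrArg Subtype.val h)
    have e : (R ⧸ I) ≃ₗ[k] (R ⧸ LinearMap.ker g') :=
      (Submodule.Quotient.restrictScalarsEquiv k I).symm.trans (Submodule.quotEquivOfEq _ _ hker)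
    have : Module.Finite k (R ⧸ LinearMap.ker g') :=
      Module.Finite.of_injective (g'.quotKerEquivRange.toLinearMap)
        (LinearEquiv.injective _)
    exact Module.Finite.equiv e.symm
  obtain ⟨n, hn⟩ := exists_prod_mem (k := k) I m (fun x hx => ⟨p, hnil x.ofConv hx⟩)
  refine ⟨n, ?_⟩
  have key : ∀ (n : ℕ) (b : A), (∀ l : List R, l.length = n → (∀ x ∈ l, x ∈ m) →
      D l.prod.ofConv b = 0) → b ∈ N k A n := by
    intro n
    induction n with
    | zero =>
      intro b hb
      have := hb [] rfl (by simp)
      rw [mem_N_zero, ← D_eps (k := k) b]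
      exact this
    | succ n ih =>
      intro b hb ψ hψ
      apply ih
      intro l hl hlm
      have h2 := hb (l ++ [toConv ψ]) (by simp [hl]) (by
        intro x hx
        rw [List.mem_append, List.mem_singleton] at hx
        rcases hx with hx | rfl
        · exact hlm x hx
        · exact hψ)
      rw [D_D]
      rw [List.prod_append, List.prod_singleton] at h2
      exact h2
  exact key n a fun l hl hlm => hn l hl hlm

/-- **Generation by primitive elements**, for a commutative cocommutative bialgebra killed by `p` in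
which the `p`-th powers of linearly independent elements are linearly independent. -/
theorem adjoin_prim_eq_top (htor : (toConv (LinearMap.id : A →ₗ[k] A)) ^ p = 1)
    (hli : ∀ {n : ℕ} (c : Fin n → A), LinearIndependent k c → LinearIndependent k (fun i => c i ^ p)) :
    Algebra.adjoin k (prim k A : Set A) = ⊤ := by
  have hnil := conv_pow_eq_zero p htor hli
  rw [eq_top_iff]
  intro a _
  obtain ⟨n, hn⟩ := exists_mem_N p hnil a
  exact N_le_adjoin p (fun x hx => D_pow_eq_zero p (hnil x hx)) n hn

end main

end K542.Filt
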